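import Cfsg.Agent.Lib.TC.SubGen

namespace Cfsg.Agent.Lib.TC.D.HeH.Rels

open Cfsg.Agent.Lib.TC.Core Cfsg.Agent.Lib.TC.Enc Cfsg.Agent.Lib.TC.Pres Cfsg.Agent.Lib.TC.Perm Cfsg.Agent.Lib.TC.Main Cfsg.Agent.Lib.TC.Chain Cfsg.Agent.Lib.TC.SubPres Cfsg.Agent.Lib.TC.Iso

set_option maxRecDepth 100000

/-- The relators. -/
def relsH : List (List Nat) :=
  [[0,0],
   [1,0,1,0,1,0,1,0,1,0,1,0,1,0,1,0,1,0,1,0],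
   [2,0,2,0],
   [3,0,3,0,3,0,3,0],
   [4,0,4,0],
   [1,1],
   [2,1,2,1,2,1],
   [3,1,3,1],
   [4,1,4,1,4,1],
   [2,2],
   [3,2,3,2],
   [4,2,4,2,4,2,4,2],
   [3,3],
   [4,3,4,3],
   [4,4],
   [0,1,0,1,0,1,0,1,2,1,0,1,0,2,1,0,2,0,1,2,0,1,0,1,2,1],
   [0,1,0,1,0,1,3,0,1,0,2,3,0,3,2,1,0,3,1],
   [0,1,0,1,0,2,1,0,1,0,1,2,1,0,3,0,1,0,2,1,0,1,2,1,0,1,0,3],
   [0,1,0,1,3,0,1,4,1,2,0,2,1,4,0,1,3],
   [0,1,2,1,4,0,3,0,1,2,4,2,4,1,0,3,4]]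

/-- The columns. -/
abbrev Kp : Cols (Fin 5) := K 5

/-- The relators of the presented group. -/
abbrev Rp : Set (FreeGroup (Fin 5)) := R 5 relsH

theorem hk : ∀ l ∈ relsH, ∀ z ∈ l, z < 5 := by decide +kernel

theorem hsq : ∀ c, c < 5 → [c, c] ∈ relsH := by decide +kernel

theorem hv : Kp.Valid (R := Rp) := valid 5 relsH hsq

theorem hrelsp : ∀ l ∈ relsH, ∃ L, FreeGroup.mk L ∈ Rp ∧ l = Kp.word L := SubPres.hrels 5 relsH hk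

end Cfsg.Agent.Lib.TC.D.HeH.Rels
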