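import Cfsg.Agent.Lib.TC.D.HeH.Rels
import Cfsg.Agent.Lib.TC.Chain
import Cfsg.Agent.Lib.TC.D.HeH.S1_T0

namespace Cfsg.Agent.Lib.TC.D.HeH.S1_Tab

open Cfsg.Agent.Lib.TC.Core Cfsg.Agent.Lib.TC.Enc Cfsg.Agent.Lib.TC.Pres Cfsg.Agent.Lib.TC.Perm Cfsg.Agent.Lib.TC.Main Cfsg.Agent.Lib.TC.Chain

set_option maxRecDepth 100000

/-- The chunks of the certificate. -/
noncomputable def ctree : Tr Nat := Cfsg.Agent.Lib.TC.D.HeH.S1_T0.tree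

/-- The relator rotations. -/
noncomputable def rotT : Tr (List Nat) := (Tr.node (Tr.node (Tr.node (Tr.node (Tr.node (Tr.node (Tr.node (Tr.node (Tr.leaf [])
 (Tr.leaf [1,0,1,2,1,0,1,0,3,0,1,0,1,0,2,1,0,1,0,1,2,1,0,3,0,1,0,2]))
 (Tr.node (Tr.leaf [3,0,1,0,2,3,0,3,2,1,0,3,1,0,1,0,1,0,1])
 (Tr.leaf [3,0,1,2,4,2,4,1,0,3,4,0,1,2,1,4,0])))
 (Tr.node (Tr.node (Tr.leaf [1,0,1,0,1,2,1,0,1,0,2,1,0,2,0,1,2,0,1,0,1,2,1,0,1,0])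
 (Tr.leaf [4,1,2,0,2,1,4,0,1,3,0,1,0,1,3,0,1]))
 (Tr.node (Tr.leaf [1,0,2,1,0,1,0,1,2,1,0,3,0,1,0,2,1,0,1,2,1,0,1,0,3,0,1,0])
 (Tr.leaf [0,4,3,0,1,4,2,4,2,1,0,3,0,4,1,2,1]))))
 (Tr.node (Tr.node (Tr.node (Tr.leaf [3,1,3,1])
 (Tr.leaf [3,0,1,0,1,0,2,1,0,1,0,1,2,1,0,3,0,1,0,2,1,0,1,2,1,0,1,0]))
 (Tr.node (Tr.leaf [2,1,0,3,1,0,1,0,1,0,1,3,0,1,0,2,3,0,3])
 (Tr.leaf [0,3,4,0,1,2,1,4,0,3,0,1,2,4,2,4,1])))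
 (Tr.node (Tr.node (Tr.leaf [0,1,2,1,0,1,0,1,0,1,0,1,2,1,0,1,0,2,1,0,2,0,1,2,0,1])
 (Tr.leaf [1,3,0,1,0,1,3,0,1,4,1,2,0,2,1,4,0]))
 (Tr.node (Tr.leaf [2,1,0,3,0,1,0,2,1,0,1,2,1,0,1,0,3,0,1,0,1,0,2,1,0,1,0,1])
 (Tr.leaf [0,4,3,0,1,4,2,4,2,1,0,3,0,4,1,2,1])))))
 (Tr.node (Tr.node (Tr.node (Tr.node (Tr.leaf [2,0,2,0])
 (Tr.leaf [1,0,1,0,3,0,1,0,1,0,2,1,0,1,0,1,2,1,0,3,0,1,0,2,1,0,1,2]))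
 (Tr.node (Tr.leaf [2,3,0,3,2,1,0,3,1,0,1,0,1,0,1,3,0,1,0])
 (Tr.leaf [4,2,4,1,0,3,4,0,1,2,1,4,0,3,0,1,2])))
 (Tr.node (Tr.node (Tr.leaf [1,0,2,0,1,2,0,1,0,1,2,1,0,1,0,1,0,1,0,1,2,1,0,1,0,2])
 (Tr.leaf [2,1,4,0,1,3,0,1,0,1,3,0,1,4,1,2,0]))
 (Tr.node (Tr.leaf [0,1,0,1,2,1,0,3,0,1,0,2,1,0,1,2,1,0,1,0,3,0,1,0,1,0,2,1])
 (Tr.leaf [0,4,3,0,1,4,2,4,2,1,0,3,0,4,1,2,1]))))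
 (Tr.node (Tr.node (Tr.node (Tr.leaf [4,3,4,3])
 (Tr.leaf [1,3,0,1,4,1,2,0,2,1,4,0,1,3,0,1,0]))
 (Tr.node (Tr.leaf [1,0,1,0,1,0,1,3,0,1,0,2,3,0,3,2,1,0,3])
 (Tr.leaf [0,4,3,0,1,4,2,4,2,1,0,3,0,4,1,2,1])))
 (Tr.node (Tr.node (Tr.leaf [0,1,0,1,3,0,1,0,2,3,0,3,2,1,0,3,1,0,1])
 (Tr.leaf [2,1,4,0,3,0,1,2,4,2,4,1,0,3,4,0,1]))
 (Tr.node (Tr.leaf [0,1,0,2,1,0,1,2,1,0,1,0,3,0,1,0,1,0,2,1,0,1,0,1,2,1,0,3])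
 (Tr.leaf [0,4,3,0,1,4,2,4,2,1,0,3,0,4,1,2,1]))))))
 (Tr.node (Tr.node (Tr.node (Tr.node (Tr.node (Tr.leaf [3,3])
 (Tr.leaf [1,2,1,0,1,0,3,0,1,0,1,0,2,1,0,1,0,1,2,1,0,3,0,1,0,2,1,0]))
 (Tr.node (Tr.leaf [1,0,2,3,0,3,2,1,0,3,1,0,1,0,1,0,1,3,0])
 (Tr.leaf [1,2,4,2,4,1,0,3,4,0,1,2,1,4,0,3,0])))
 (Tr.node (Tr.node (Tr.leaf [1,0,1,2,1,0,1,0,2,1,0,2,0,1,2,0,1,0,1,2,1,0,1,0,1,0])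
 (Tr.leaf [2,0,2,1,4,0,1,3,0,1,0,1,3,0,1,4,1]))
 (Tr.node (Tr.leaf [2,1,0,1,0,1,2,1,0,3,0,1,0,2,1,0,1,2,1,0,1,0,3,0,1,0,1,0])
 (Tr.leaf [0,4,3,0,1,4,2,4,2,1,0,3,0,4,1,2,1]))))
 (Tr.node (Tr.node (Tr.node (Tr.leaf [3,2,3,2])
 (Tr.leaf [1,0,1,3,0,1,4,1,2,0,2,1,4,0,1,3,0]))
 (Tr.node (Tr.leaf [0,3,1,0,1,0,1,0,1,3,0,1,0,2,3,0,3,2,1])
 (Tr.leaf [4,0,1,2,1,4,0,3,0,1,2,4,2,4,1,0,3])))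
 (Tr.node (Tr.node (Tr.leaf [0,1,0,1,0,1,3,0,1,0,2,3,0,3,2,1,0,3,1])
 (Tr.leaf [0,1,2,1,4,0,3,0,1,2,4,2,4,1,0,3,4]))
 (Tr.node (Tr.leaf [0,3,0,1,0,2,1,0,1,2,1,0,1,0,3,0,1,0,1,0,2,1,0,1,0,1,2,1])
 (Tr.leaf [0,4,3,0,1,4,2,4,2,1,0,3,0,4,1,2,1])))))
 (Tr.node (Tr.node (Tr.node (Tr.node (Tr.leaf [4,0,4,0])
 (Tr.leaf [1,0,3,0,1,0,1,0,2,1,0,1,0,1,2,1,0,3,0,1,0,2,1,0,1,2,1,0]))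
 (Tr.node (Tr.leaf [0,3,2,1,0,3,1,0,1,0,1,0,1,3,0,1,0,2,3])
 (Tr.leaf [4,1,0,3,4,0,1,2,1,4,0,3,0,1,2,4,2])))
 (Tr.node (Tr.node (Tr.leaf [1,2,0,1,0,1,2,1,0,1,0,1,0,1,0,1,2,1,0,1,0,2,1,0,2,0])
 (Tr.leaf [4,0,1,3,0,1,0,1,3,0,1,4,1,2,0,2,1]))
 (Tr.node (Tr.leaf [0,1,2,1,0,3,0,1,0,2,1,0,1,2,1,0,1,0,3,0,1,0,1,0,2,1,0,1])
 (Tr.leaf [0,4,3,0,1,4,2,4,2,1,0,3,0,4,1,2,1]))))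
 (Tr.node (Tr.node (Tr.node (Tr.leaf [1,0,1,0,1,0,1,2,1,0,1,0,2,1,0,2,0,1,2,0,1,0,1,2,1,0])
 (Tr.leaf [0,1,4,1,2,0,2,1,4,0,1,3,0,1,0,1,3]))
 (Tr.node (Tr.leaf [1,0,1,0,2,1,0,1,0,1,2,1,0,3,0,1,0,2,1,0,1,2,1,0,1,0,3,0])
 (Tr.leaf [0,4,3,0,1,4,2,4,2,1,0,3,0,4,1,2,1])))
 (Tr.node (Tr.node (Tr.leaf [0,1,3,0,1,0,2,3,0,3,2,1,0,3,1,0,1,0,1])
 (Tr.leaf [4,0,3,0,1,2,4,2,4,1,0,3,4,0,1,2,1]))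
 (Tr.node (Tr.leaf [0,2,1,0,1,2,1,0,1,0,3,0,1,0,1,0,2,1,0,1,0,1,2,1,0,3,0,1])
 (Tr.leaf [0,4,3,0,1,4,2,4,2,1,0,3,0,4,1,2,1])))))))
 (Tr.node (Tr.node (Tr.node (Tr.node (Tr.node (Tr.node (Tr.leaf [1,1])
 (Tr.leaf [0,1,2,1,0,1,0,3,0,1,0,1,0,2,1,0,1,0,1,2,1,0,3,0,1,0,2,1]))
 (Tr.node (Tr.leaf [0,1,0,2,3,0,3,2,1,0,3,1,0,1,0,1,0,1,3])
 (Tr.leaf [0,1,2,4,2,4,1,0,3,4,0,1,2,1,4,0,3])))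
 (Tr.node (Tr.node (Tr.leaf [0,1,0,1,2,1,0,1,0,2,1,0,2,0,1,2,0,1,0,1,2,1,0,1,0,1])
 (Tr.leaf [1,2,0,2,1,4,0,1,3,0,1,0,1,3,0,1,4]))
 (Tr.node (Tr.leaf [0,2,1,0,1,0,1,2,1,0,3,0,1,0,2,1,0,1,2,1,0,1,0,3,0,1,0,1])
 (Tr.leaf [0,4,3,0,1,4,2,4,2,1,0,3,0,4,1,2,1]))))
 (Tr.node (Tr.node (Tr.node (Tr.leaf [4,1,4,1,4,1])
 (Tr.leaf [0,1,0,1,3,0,1,4,1,2,0,2,1,4,0,1,3]))
 (Tr.node (Tr.leaf [1,0,3,1,0,1,0,1,0,1,3,0,1,0,2,3,0,3,2])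
 (Tr.leaf [3,4,0,1,2,1,4,0,3,0,1,2,4,2,4,1,0])))
 (Tr.node (Tr.node (Tr.leaf [2,1,0,1,0,1,0,1,0,1,2,1,0,1,0,2,1,0,2,0,1,2,0,1,0,1])
 (Tr.leaf [3,0,1,0,1,3,0,1,4,1,2,0,2,1,4,0,1]))
 (Tr.node (Tr.leaf [1,0,3,0,1,0,2,1,0,1,2,1,0,1,0,3,0,1,0,1,0,2,1,0,1,0,1,2])
 (Tr.leaf [0,4,3,0,1,4,2,4,2,1,0,3,0,4,1,2,1])))))
 (Tr.node (Tr.node (Tr.node (Tr.node (Tr.leaf [3,0,3,0,3,0,3,0])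
 (Tr.leaf [0,1,0,3,0,1,0,1,0,2,1,0,1,0,1,2,1,0,3,0,1,0,2,1,0,1,2,1]))
 (Tr.node (Tr.leaf [3,0,3,2,1,0,3,1,0,1,0,1,0,1,3,0,1,0,2])
 (Tr.leaf [2,4,1,0,3,4,0,1,2,1,4,0,3,0,1,2,4])))
 (Tr.node (Tr.node (Tr.leaf [2,0,1,2,0,1,0,1,2,1,0,1,0,1,0,1,0,1,2,1,0,1,0,2,1,0])
 (Tr.leaf [1,4,0,1,3,0,1,0,1,3,0,1,4,1,2,0,2]))
 (Tr.node (Tr.leaf [1,0,1,2,1,0,3,0,1,0,2,1,0,1,2,1,0,1,0,3,0,1,0,1,0,2,1,0])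
 (Tr.leaf [0,4,3,0,1,4,2,4,2,1,0,3,0,4,1,2,1]))))
 (Tr.node (Tr.node (Tr.node (Tr.leaf [0,1,0,1,0,1,0,1,2,1,0,1,0,2,1,0,2,0,1,2,0,1,0,1,2,1])
 (Tr.leaf [3,0,1,4,1,2,0,2,1,4,0,1,3,0,1,0,1]))
 (Tr.node (Tr.leaf [0,1,0,1,0,2,1,0,1,0,1,2,1,0,3,0,1,0,2,1,0,1,2,1,0,1,0,3])
 (Tr.leaf [0,4,3,0,1,4,2,4,2,1,0,3,0,4,1,2,1])))
 (Tr.node (Tr.node (Tr.leaf [1,0,1,3,0,1,0,2,3,0,3,2,1,0,3,1,0,1,0])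
 (Tr.leaf [1,4,0,3,0,1,2,4,2,4,1,0,3,4,0,1,2]))
 (Tr.node (Tr.leaf [1,0,2,1,0,1,2,1,0,1,0,3,0,1,0,1,0,2,1,0,1,0,1,2,1,0,3,0])
 (Tr.leaf [0,4,3,0,1,4,2,4,2,1,0,3,0,4,1,2,1]))))))
 (Tr.node (Tr.node (Tr.node (Tr.node (Tr.node (Tr.leaf [1,0,1,0,1,0,1,0,1,0,1,0,1,0,1,0,1,0,1,0])
 (Tr.leaf [2,1,0,1,0,3,0,1,0,1,0,2,1,0,1,0,1,2,1,0,3,0,1,0,2,1,0,1]))
 (Tr.node (Tr.leaf [0,2,3,0,3,2,1,0,3,1,0,1,0,1,0,1,3,0,1])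
 (Tr.leaf [2,4,2,4,1,0,3,4,0,1,2,1,4,0,3,0,1])))
 (Tr.node (Tr.node (Tr.leaf [0,1,2,1,0,1,0,2,1,0,2,0,1,2,0,1,0,1,2,1,0,1,0,1,0,1])
 (Tr.leaf [0,2,1,4,0,1,3,0,1,0,1,3,0,1,4,1,2]))
 (Tr.node (Tr.leaf [1,0,1,0,1,2,1,0,3,0,1,0,2,1,0,1,2,1,0,1,0,3,0,1,0,1,0,2])
 (Tr.leaf [0,4,3,0,1,4,2,4,2,1,0,3,0,4,1,2,1]))))
 (Tr.node (Tr.node (Tr.node (Tr.leaf [4,2,4,2,4,2,4,2])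
 (Tr.leaf [0,1,3,0,1,4,1,2,0,2,1,4,0,1,3,0,1]))
 (Tr.node (Tr.leaf [3,1,0,1,0,1,0,1,3,0,1,0,2,3,0,3,2,1,0])
 (Tr.leaf [0,4,3,0,1,4,2,4,2,1,0,3,0,4,1,2,1])))
 (Tr.node (Tr.node (Tr.leaf [1,0,1,0,1,3,0,1,0,2,3,0,3,2,1,0,3,1,0])
 (Tr.leaf [1,2,1,4,0,3,0,1,2,4,2,4,1,0,3,4,0]))
 (Tr.node (Tr.leaf [3,0,1,0,2,1,0,1,2,1,0,1,0,3,0,1,0,1,0,2,1,0,1,0,1,2,1,0])
 (Tr.leaf [0,4,3,0,1,4,2,4,2,1,0,3,0,4,1,2,1])))))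
 (Tr.node (Tr.node (Tr.node (Tr.node (Tr.leaf [2,1,2,1,2,1])
 (Tr.leaf [0,3,0,1,0,1,0,2,1,0,1,0,1,2,1,0,3,0,1,0,2,1,0,1,2,1,0,1]))
 (Tr.node (Tr.leaf [3,2,1,0,3,1,0,1,0,1,0,1,3,0,1,0,2,3,0])
 (Tr.leaf [1,0,3,4,0,1,2,1,4,0,3,0,1,2,4,2,4])))
 (Tr.node (Tr.node (Tr.leaf [0,1,0,1,2,1,0,1,0,1,0,1,0,1,2,1,0,1,0,2,1,0,2,0,1,2])
 (Tr.leaf [0,1,3,0,1,0,1,3,0,1,4,1,2,0,2,1,4]))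
 (Tr.node (Tr.leaf [1,2,1,0,3,0,1,0,2,1,0,1,2,1,0,1,0,3,0,1,0,1,0,2,1,0,1,0])
 (Tr.leaf [0,4,3,0,1,4,2,4,2,1,0,3,0,4,1,2,1]))))
 (Tr.node (Tr.node (Tr.node (Tr.leaf [0,1,0,1,0,1,2,1,0,1,0,2,1,0,2,0,1,2,0,1,0,1,2,1,0,1])
 (Tr.leaf [1,4,1,2,0,2,1,4,0,1,3,0,1,0,1,3,0]))
 (Tr.node (Tr.leaf [0,1,0,2,1,0,1,0,1,2,1,0,3,0,1,0,2,1,0,1,2,1,0,1,0,3,0,1])
 (Tr.leaf [0,4,3,0,1,4,2,4,2,1,0,3,0,4,1,2,1])))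
 (Tr.node (Tr.node (Tr.leaf [1,3,0,1,0,2,3,0,3,2,1,0,3,1,0,1,0,1,0])
 (Tr.leaf [0,3,0,1,2,4,2,4,1,0,3,4,0,1,2,1,4]))
 (Tr.node (Tr.leaf [2,1,0,1,2,1,0,1,0,3,0,1,0,1,0,2,1,0,1,0,1,2,1,0,3,0,1,0])
 (Tr.leaf [0,4,3,0,1,4,2,4,2,1,0,3,0,4,1,2,1]))))))))
 (Tr.node (Tr.node (Tr.node (Tr.node (Tr.node (Tr.node (Tr.node (Tr.leaf [0,0])
 (Tr.leaf [1,0,1,2,0,1,0,1,0,3,0,1,0,1,2,1,0,1,2,0,1,0,3,0,1,2,1,0]))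
 (Tr.node (Tr.leaf [0,3,2,0,1,0,3,1,0,1,0,1,0,1,3,0,1,2,3])
 (Tr.leaf [4,2,1,0,3,0,4,1,2,1,0,4,3,0,1,4,2])))
 (Tr.node (Tr.node (Tr.leaf [0,1,0,2,1,0,2,0,1,2,0,1,0,1,2,1,0,1,0,1,0,1,0,1,2,1])
 (Tr.leaf [2,1,4,1,0,3,1,0,1,0,3,1,0,4,1,2,0]))
 (Tr.node (Tr.leaf [0,1,2,1,0,1,2,0,1,0,3,0,1,2,1,0,1,0,1,2,0,1,0,1,0,3,0,1])
 (Tr.leaf [0,4,3,0,1,4,2,4,2,1,0,3,0,4,1,2,1]))))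
 (Tr.node (Tr.node (Tr.node (Tr.leaf [1,3,1,3])
 (Tr.leaf [0,3,0,1,0,1,2,1,0,1,2,0,1,0,3,0,1,2,1,0,1,0,1,2,0,1,0,1]))
 (Tr.node (Tr.leaf [0,1,0,1,0,1,3,0,1,2,3,0,3,2,0,1,0,3,1])
 (Tr.leaf [2,1,0,4,3,0,1,4,2,4,2,1,0,3,0,4,1])))
 (Tr.node (Tr.node (Tr.leaf [1,2,1,0,1,0,1,0,1,0,1,2,1,0,1,0,2,1,0,2,0,1,2,0,1,0])
 (Tr.leaf [1,0,3,1,0,4,1,2,0,2,1,4,1,0,3,1,0]))
 (Tr.node (Tr.leaf [1,0,3,0,1,2,1,0,1,0,1,2,0,1,0,1,0,3,0,1,0,1,2,1,0,1,2,0])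
 (Tr.leaf [0,4,3,0,1,4,2,4,2,1,0,3,0,4,1,2,1])))))
 (Tr.node (Tr.node (Tr.node (Tr.node (Tr.leaf [0,2,0,2])
 (Tr.leaf [0,1,0,1,0,3,0,1,0,1,2,1,0,1,2,0,1,0,3,0,1,2,1,0,1,0,1,2]))
 (Tr.node (Tr.leaf [1,0,3,1,0,1,0,1,0,1,3,0,1,2,3,0,3,2,0])
 (Tr.leaf [3,0,4,1,2,1,0,4,3,0,1,4,2,4,2,1,0])))
 (Tr.node (Tr.node (Tr.leaf [0,2,0,1,2,0,1,0,1,2,1,0,1,0,1,0,1,0,1,2,1,0,1,0,2,1])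
 (Tr.leaf [0,3,1,0,1,0,3,1,0,4,1,2,0,2,1,4,1]))
 (Tr.node (Tr.leaf [0,1,2,0,1,0,3,0,1,2,1,0,1,0,1,2,0,1,0,1,0,3,0,1,0,1,2,1])
 (Tr.leaf [0,4,3,0,1,4,2,4,2,1,0,3,0,4,1,2,1]))))
 (Tr.node (Tr.node (Tr.node (Tr.leaf [3,4,3,4])
 (Tr.leaf [4,1,2,0,2,1,4,1,0,3,1,0,1,0,3,1,0]))
 (Tr.node (Tr.leaf [0,1,3,0,1,2,3,0,3,2,0,1,0,3,1,0,1,0,1])
 (Tr.leaf [0,4,3,0,1,4,2,4,2,1,0,3,0,4,1,2,1])))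
 (Tr.node (Tr.node (Tr.leaf [0,1,2,3,0,3,2,0,1,0,3,1,0,1,0,1,0,1,3])
 (Tr.leaf [0,1,4,2,4,2,1,0,3,0,4,1,2,1,0,4,3]))
 (Tr.node (Tr.leaf [1,2,1,0,1,0,1,2,0,1,0,1,0,3,0,1,0,1,2,1,0,1,2,0,1,0,3,0])
 (Tr.leaf [0,4,3,0,1,4,2,4,2,1,0,3,0,4,1,2,1]))))))
 (Tr.node (Tr.node (Tr.node (Tr.node (Tr.node (Tr.leaf [4,4])
 (Tr.leaf [1,2,0,1,0,1,0,3,0,1,0,1,2,1,0,1,2,0,1,0,3,0,1,2,1,0,1,0]))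
 (Tr.node (Tr.leaf [2,0,1,0,3,1,0,1,0,1,0,1,3,0,1,2,3,0,3])
 (Tr.leaf [1,0,3,0,4,1,2,1,0,4,3,0,1,4,2,4,2])))
 (Tr.node (Tr.node (Tr.leaf [0,2,1,0,2,0,1,2,0,1,0,1,2,1,0,1,0,1,0,1,0,1,2,1,0,1])
 (Tr.leaf [4,1,0,3,1,0,1,0,3,1,0,4,1,2,0,2,1]))
 (Tr.node (Tr.leaf [2,1,0,1,2,0,1,0,3,0,1,2,1,0,1,0,1,2,0,1,0,1,0,3,0,1,0,1])
 (Tr.leaf [0,4,3,0,1,4,2,4,2,1,0,3,0,4,1,2,1]))))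
 (Tr.node (Tr.node (Tr.node (Tr.leaf [2,3,2,3])
 (Tr.leaf [1,0,4,1,2,0,2,1,4,1,0,3,1,0,1,0,3]))
 (Tr.node (Tr.leaf [0,1,0,1,3,0,1,2,3,0,3,2,0,1,0,3,1,0,1])
 (Tr.leaf [0,4,3,0,1,4,2,4,2,1,0,3,0,4,1,2,1])))
 (Tr.node (Tr.node (Tr.leaf [1,3,0,1,2,3,0,3,2,0,1,0,3,1,0,1,0,1,0])
 (Tr.leaf [4,3,0,1,4,2,4,2,1,0,3,0,4,1,2,1,0]))
 (Tr.node (Tr.leaf [3,0,1,2,1,0,1,0,1,2,0,1,0,1,0,3,0,1,0,1,2,1,0,1,2,0,1,0])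
 (Tr.leaf [0,4,3,0,1,4,2,4,2,1,0,3,0,4,1,2,1])))))
 (Tr.node (Tr.node (Tr.node (Tr.node (Tr.leaf [0,4,0,4])
 (Tr.leaf [0,1,0,3,0,1,0,1,2,1,0,1,2,0,1,0,3,0,1,2,1,0,1,0,1,2,0,1]))
 (Tr.node (Tr.leaf [3,1,0,1,0,1,0,1,3,0,1,2,3,0,3,2,0,1,0])
 (Tr.leaf [4,1,2,1,0,4,3,0,1,4,2,4,2,1,0,3,0])))
 (Tr.node (Tr.node (Tr.leaf [2,0,1,0,1,2,1,0,1,0,1,0,1,0,1,2,1,0,1,0,2,1,0,2,0,1])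
 (Tr.leaf [1,0,1,0,3,1,0,4,1,2,0,2,1,4,1,0,3]))
 (Tr.node (Tr.leaf [2,0,1,0,3,0,1,2,1,0,1,0,1,2,0,1,0,1,0,3,0,1,0,1,2,1,0,1])
 (Tr.leaf [0,4,3,0,1,4,2,4,2,1,0,3,0,4,1,2,1]))))
 (Tr.node (Tr.node (Tr.node (Tr.leaf [2,1,0,1,0,2,1,0,2,0,1,2,0,1,0,1,2,1,0,1,0,1,0,1,0,1])
 (Tr.leaf [2,0,2,1,4,1,0,3,1,0,1,0,3,1,0,4,1]))
 (Tr.node (Tr.leaf [0,1,0,1,2,1,0,1,2,0,1,0,3,0,1,2,1,0,1,0,1,2,0,1,0,1,0,3])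
 (Tr.leaf [0,4,3,0,1,4,2,4,2,1,0,3,0,4,1,2,1])))
 (Tr.node (Tr.node (Tr.leaf [2,3,0,3,2,0,1,0,3,1,0,1,0,1,0,1,3,0,1])
 (Tr.leaf [4,2,4,2,1,0,3,0,4,1,2,1,0,4,3,0,1]))
 (Tr.node (Tr.leaf [1,0,1,0,1,2,0,1,0,1,0,3,0,1,0,1,2,1,0,1,2,0,1,0,3,0,1,2])
 (Tr.leaf [0,4,3,0,1,4,2,4,2,1,0,3,0,4,1,2,1])))))))
 (Tr.node (Tr.node (Tr.node (Tr.node (Tr.node (Tr.node (Tr.leaf [2,2])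
 (Tr.leaf [0,1,2,0,1,0,1,0,3,0,1,0,1,2,1,0,1,2,0,1,0,3,0,1,2,1,0,1]))
 (Tr.node (Tr.leaf [3,2,0,1,0,3,1,0,1,0,1,0,1,3,0,1,2,3,0])
 (Tr.leaf [2,1,0,3,0,4,1,2,1,0,4,3,0,1,4,2,4])))
 (Tr.node (Tr.node (Tr.leaf [1,0,2,1,0,2,0,1,2,0,1,0,1,2,1,0,1,0,1,0,1,0,1,2,1,0])
 (Tr.leaf [1,4,1,0,3,1,0,1,0,3,1,0,4,1,2,0,2]))
 (Tr.node (Tr.leaf [1,2,1,0,1,2,0,1,0,3,0,1,2,1,0,1,0,1,2,0,1,0,1,0,3,0,1,0])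
 (Tr.leaf [0,4,3,0,1,4,2,4,2,1,0,3,0,4,1,2,1]))))
 (Tr.node (Tr.node (Tr.node (Tr.leaf [1,4,1,4,1,4])
 (Tr.leaf [3,1,0,4,1,2,0,2,1,4,1,0,3,1,0,1,0]))
 (Tr.node (Tr.leaf [1,0,1,0,1,3,0,1,2,3,0,3,2,0,1,0,3,1,0])
 (Tr.leaf [1,0,4,3,0,1,4,2,4,2,1,0,3,0,4,1,2])))
 (Tr.node (Tr.node (Tr.leaf [1,0,1,0,1,0,1,0,1,2,1,0,1,0,2,1,0,2,0,1,2,0,1,0,1,2])
 (Tr.leaf [0,3,1,0,4,1,2,0,2,1,4,1,0,3,1,0,1]))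
 (Tr.node (Tr.leaf [0,3,0,1,2,1,0,1,0,1,2,0,1,0,1,0,3,0,1,0,1,2,1,0,1,2,0,1])
 (Tr.leaf [0,4,3,0,1,4,2,4,2,1,0,3,0,4,1,2,1])))))
 (Tr.node (Tr.node (Tr.node (Tr.node (Tr.leaf [0,3,0,3,0,3,0,3])
 (Tr.leaf [1,0,1,0,3,0,1,0,1,2,1,0,1,2,0,1,0,3,0,1,2,1,0,1,0,1,2,0]))
 (Tr.node (Tr.leaf [0,3,1,0,1,0,1,0,1,3,0,1,2,3,0,3,2,0,1])
 (Tr.leaf [0,4,1,2,1,0,4,3,0,1,4,2,4,2,1,0,3])))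
 (Tr.node (Tr.node (Tr.leaf [0,1,2,0,1,0,1,2,1,0,1,0,1,0,1,0,1,2,1,0,1,0,2,1,0,2])
 (Tr.leaf [3,1,0,1,0,3,1,0,4,1,2,0,2,1,4,1,0]))
 (Tr.node (Tr.leaf [1,2,0,1,0,3,0,1,2,1,0,1,0,1,2,0,1,0,1,0,3,0,1,0,1,2,1,0])
 (Tr.leaf [0,4,3,0,1,4,2,4,2,1,0,3,0,4,1,2,1]))))
 (Tr.node (Tr.node (Tr.node (Tr.leaf [1,2,1,0,1,0,2,1,0,2,0,1,2,0,1,0,1,2,1,0,1,0,1,0,1,0])
 (Tr.leaf [1,2,0,2,1,4,1,0,3,1,0,1,0,3,1,0,4]))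
 (Tr.node (Tr.leaf [3,0,1,0,1,2,1,0,1,2,0,1,0,3,0,1,2,1,0,1,0,1,2,0,1,0,1,0])
 (Tr.leaf [0,4,3,0,1,4,2,4,2,1,0,3,0,4,1,2,1])))
 (Tr.node (Tr.node (Tr.leaf [1,2,3,0,3,2,0,1,0,3,1,0,1,0,1,0,1,3,0])
 (Tr.leaf [1,4,2,4,2,1,0,3,0,4,1,2,1,0,4,3,0]))
 (Tr.node (Tr.leaf [2,1,0,1,0,1,2,0,1,0,1,0,3,0,1,0,1,2,1,0,1,2,0,1,0,3,0,1])
 (Tr.leaf [0,4,3,0,1,4,2,4,2,1,0,3,0,4,1,2,1]))))))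
 (Tr.node (Tr.node (Tr.node (Tr.node (Tr.node (Tr.leaf [0,1,0,1,0,1,0,1,0,1,0,1,0,1,0,1,0,1,0,1])
 (Tr.leaf [2,0,1,0,1,0,3,0,1,0,1,2,1,0,1,2,0,1,0,3,0,1,2,1,0,1,0,1]))
 (Tr.node (Tr.leaf [0,1,0,3,1,0,1,0,1,0,1,3,0,1,2,3,0,3,2])
 (Tr.leaf [0,3,0,4,1,2,1,0,4,3,0,1,4,2,4,2,1])))
 (Tr.node (Tr.node (Tr.leaf [2,1,0,2,0,1,2,0,1,0,1,2,1,0,1,0,1,0,1,0,1,2,1,0,1,0])
 (Tr.leaf [1,0,3,1,0,1,0,3,1,0,4,1,2,0,2,1,4]))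
 (Tr.node (Tr.leaf [1,0,1,2,0,1,0,3,0,1,2,1,0,1,0,1,2,0,1,0,1,0,3,0,1,0,1,2])
 (Tr.leaf [0,4,3,0,1,4,2,4,2,1,0,3,0,4,1,2,1]))))
 (Tr.node (Tr.node (Tr.node (Tr.leaf [2,4,2,4,2,4,2,4])
 (Tr.leaf [0,4,1,2,0,2,1,4,1,0,3,1,0,1,0,3,1]))
 (Tr.node (Tr.leaf [1,0,1,3,0,1,2,3,0,3,2,0,1,0,3,1,0,1,0])
 (Tr.leaf [0,4,3,0,1,4,2,4,2,1,0,3,0,4,1,2,1])))
 (Tr.node (Tr.node (Tr.leaf [3,0,1,2,3,0,3,2,0,1,0,3,1,0,1,0,1,0,1])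
 (Tr.leaf [3,0,1,4,2,4,2,1,0,3,0,4,1,2,1,0,4]))
 (Tr.node (Tr.leaf [0,1,2,1,0,1,0,1,2,0,1,0,1,0,3,0,1,0,1,2,1,0,1,2,0,1,0,3])
 (Tr.leaf [0,4,3,0,1,4,2,4,2,1,0,3,0,4,1,2,1])))))
 (Tr.node (Tr.node (Tr.node (Tr.node (Tr.leaf [1,2,1,2,1,2])
 (Tr.leaf [1,0,3,0,1,0,1,2,1,0,1,2,0,1,0,3,0,1,2,1,0,1,0,1,2,0,1,0]))
 (Tr.node (Tr.leaf [1,0,1,0,1,0,1,3,0,1,2,3,0,3,2,0,1,0,3])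
 (Tr.leaf [1,2,1,0,4,3,0,1,4,2,4,2,1,0,3,0,4])))
 (Tr.node (Tr.node (Tr.leaf [1,0,1,2,1,0,1,0,1,0,1,0,1,2,1,0,1,0,2,1,0,2,0,1,2,0])
 (Tr.leaf [0,1,0,3,1,0,4,1,2,0,2,1,4,1,0,3,1]))
 (Tr.node (Tr.leaf [0,1,0,3,0,1,2,1,0,1,0,1,2,0,1,0,1,0,3,0,1,0,1,2,1,0,1,2])
 (Tr.leaf [0,4,3,0,1,4,2,4,2,1,0,3,0,4,1,2,1]))))
 (Tr.node (Tr.node (Tr.node (Tr.leaf [1,0,1,0,2,1,0,2,0,1,2,0,1,0,1,2,1,0,1,0,1,0,1,0,1,2])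
 (Tr.leaf [0,2,1,4,1,0,3,1,0,1,0,3,1,0,4,1,2]))
 (Tr.node (Tr.leaf [1,0,1,2,1,0,1,2,0,1,0,3,0,1,2,1,0,1,0,1,2,0,1,0,1,0,3,0])
 (Tr.leaf [0,4,3,0,1,4,2,4,2,1,0,3,0,4,1,2,1])))
 (Tr.node (Tr.node (Tr.leaf [3,0,3,2,0,1,0,3,1,0,1,0,1,0,1,3,0,1,2])
 (Tr.leaf [2,4,2,1,0,3,0,4,1,2,1,0,4,3,0,1,4]))
 (Tr.node (Tr.leaf [0,1,0,1,2,0,1,0,1,0,3,0,1,0,1,2,1,0,1,2,0,1,0,3,0,1,2,1])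
 (Tr.leaf [0,4,3,0,1,4,2,4,2,1,0,3,0,4,1,2,1])))))))))

/-- The subgroup rotations. -/
noncomputable def srotT : Tr (List Nat × Nat × List Nat) := (Tr.node (Tr.node (Tr.leaf ([],0,[]))
 (Tr.leaf ([],2,[])))
 (Tr.node (Tr.leaf ([],1,[]))
 (Tr.leaf ([],3,[]))))

/-- The certificate. -/
noncomputable def cert : Cert :=
  mkCert 5 271 1316 3 214 218 4 15 198 29 145 186 536870911 2199023255551 11 9 2047 511 20 18 7 ctree.get rotT.get srotT.get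

/-- The witnesses of the rotations. -/
noncomputable def witT : Tr (Nat × Nat × Bool) := (Tr.node (Tr.node (Tr.node (Tr.node (Tr.node (Tr.node (Tr.node (Tr.node (Tr.leaf (0,0,false))
 (Tr.leaf (17,19,false)))
 (Tr.node (Tr.leaf (16,6,false))
 (Tr.leaf (19,6,false))))
 (Tr.node (Tr.node (Tr.leaf (15,3,false))
 (Tr.leaf (18,7,false)))
 (Tr.node (Tr.leaf (17,3,false))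
 (Tr.leaf (19,16,true)))))
 (Tr.node (Tr.node (Tr.node (Tr.leaf (7,0,false))
 (Tr.leaf (17,27,false)))
 (Tr.node (Tr.leaf (16,14,false))
 (Tr.leaf (19,14,false))))
 (Tr.node (Tr.node (Tr.leaf (15,22,false))
 (Tr.leaf (18,15,false)))
 (Tr.node (Tr.leaf (17,11,false))
 (Tr.leaf (19,16,true))))))
 (Tr.node (Tr.node (Tr.node (Tr.node (Tr.leaf (2,0,false))
 (Tr.leaf (17,23,false)))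
 (Tr.node (Tr.leaf (16,10,false))
 (Tr.leaf (19,10,false))))
 (Tr.node (Tr.node (Tr.leaf (15,14,false))
 (Tr.leaf (18,11,false)))
 (Tr.node (Tr.leaf (17,7,false))
 (Tr.leaf (19,16,true)))))
 (Tr.node (Tr.node (Tr.node (Tr.leaf (13,0,false))
 (Tr.leaf (18,3,false)))
 (Tr.node (Tr.leaf (16,18,false))
 (Tr.leaf (19,16,true))))
 (Tr.node (Tr.node (Tr.leaf (16,2,false))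
 (Tr.leaf (19,2,false)))
 (Tr.node (Tr.leaf (17,15,false))
 (Tr.leaf (19,16,true)))))))
 (Tr.node (Tr.node (Tr.node (Tr.node (Tr.node (Tr.leaf (12,0,false))
 (Tr.leaf (17,21,false)))
 (Tr.node (Tr.leaf (16,8,false))
 (Tr.leaf (19,8,false))))
 (Tr.node (Tr.node (Tr.leaf (15,5,false))
 (Tr.leaf (18,9,false)))
 (Tr.node (Tr.leaf (17,5,false))
 (Tr.leaf (19,16,true)))))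
 (Tr.node (Tr.node (Tr.node (Tr.leaf (10,0,false))
 (Tr.leaf (18,1,false)))
 (Tr.node (Tr.leaf (16,16,false))
 (Tr.leaf (19,16,false))))
 (Tr.node (Tr.node (Tr.leaf (16,0,false))
 (Tr.leaf (19,0,false)))
 (Tr.node (Tr.leaf (17,13,false))
 (Tr.leaf (19,16,true))))))
 (Tr.node (Tr.node (Tr.node (Tr.node (Tr.leaf (4,0,false))
 (Tr.leaf (17,25,false)))
 (Tr.node (Tr.leaf (16,12,false))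
 (Tr.leaf (19,12,false))))
 (Tr.node (Tr.node (Tr.leaf (15,18,false))
 (Tr.leaf (18,13,false)))
 (Tr.node (Tr.leaf (17,9,false))
 (Tr.leaf (19,16,true)))))
 (Tr.node (Tr.node (Tr.node (Tr.leaf (15,1,false))
 (Tr.leaf (18,5,false)))
 (Tr.node (Tr.leaf (17,1,false))
 (Tr.leaf (19,16,true))))
 (Tr.node (Tr.node (Tr.leaf (16,4,false))
 (Tr.leaf (19,4,false)))
 (Tr.node (Tr.leaf (17,17,false))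
 (Tr.leaf (19,16,true))))))))
 (Tr.node (Tr.node (Tr.node (Tr.node (Tr.node (Tr.node (Tr.leaf (5,0,false))
 (Tr.leaf (17,20,false)))
 (Tr.node (Tr.leaf (16,7,false))
 (Tr.leaf (19,7,false))))
 (Tr.node (Tr.node (Tr.leaf (15,4,false))
 (Tr.leaf (18,8,false)))
 (Tr.node (Tr.leaf (17,4,false))
 (Tr.leaf (19,16,true)))))
 (Tr.node (Tr.node (Tr.node (Tr.leaf (8,0,false))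
 (Tr.leaf (18,0,false)))
 (Tr.node (Tr.leaf (16,15,false))
 (Tr.leaf (19,15,false))))
 (Tr.node (Tr.node (Tr.leaf (15,24,false))
 (Tr.leaf (18,16,false)))
 (Tr.node (Tr.leaf (17,12,false))
 (Tr.leaf (19,16,true))))))
 (Tr.node (Tr.node (Tr.node (Tr.node (Tr.leaf (3,0,false))
 (Tr.leaf (17,24,false)))
 (Tr.node (Tr.leaf (16,11,false))
 (Tr.leaf (19,11,false))))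
 (Tr.node (Tr.node (Tr.leaf (15,16,false))
 (Tr.leaf (18,12,false)))
 (Tr.node (Tr.leaf (17,8,false))
 (Tr.leaf (19,16,true)))))
 (Tr.node (Tr.node (Tr.node (Tr.leaf (15,0,false))
 (Tr.leaf (18,4,false)))
 (Tr.node (Tr.leaf (17,0,false))
 (Tr.leaf (19,16,true))))
 (Tr.node (Tr.node (Tr.leaf (16,3,false))
 (Tr.leaf (19,3,false)))
 (Tr.node (Tr.leaf (17,16,false))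
 (Tr.leaf (19,16,true)))))))
 (Tr.node (Tr.node (Tr.node (Tr.node (Tr.node (Tr.leaf (1,0,false))
 (Tr.leaf (17,22,false)))
 (Tr.node (Tr.leaf (16,9,false))
 (Tr.leaf (19,9,false))))
 (Tr.node (Tr.node (Tr.leaf (15,6,false))
 (Tr.leaf (18,10,false)))
 (Tr.node (Tr.leaf (17,6,false))
 (Tr.leaf (19,16,true)))))
 (Tr.node (Tr.node (Tr.node (Tr.leaf (11,0,false))
 (Tr.leaf (18,2,false)))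
 (Tr.node (Tr.leaf (16,17,false))
 (Tr.leaf (19,16,true))))
 (Tr.node (Tr.node (Tr.leaf (16,1,false))
 (Tr.leaf (19,1,false)))
 (Tr.node (Tr.leaf (17,14,false))
 (Tr.leaf (19,16,true))))))
 (Tr.node (Tr.node (Tr.node (Tr.node (Tr.leaf (6,0,false))
 (Tr.leaf (17,26,false)))
 (Tr.node (Tr.leaf (16,13,false))
 (Tr.leaf (19,13,false))))
 (Tr.node (Tr.node (Tr.leaf (15,20,false))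
 (Tr.leaf (18,14,false)))
 (Tr.node (Tr.leaf (17,10,false))
 (Tr.leaf (19,16,true)))))
 (Tr.node (Tr.node (Tr.node (Tr.leaf (15,2,false))
 (Tr.leaf (18,6,false)))
 (Tr.node (Tr.leaf (17,2,false))
 (Tr.leaf (19,16,true))))
 (Tr.node (Tr.node (Tr.leaf (16,5,false))
 (Tr.leaf (19,5,false)))
 (Tr.node (Tr.leaf (17,18,false))
 (Tr.leaf (19,16,true)))))))))
 (Tr.node (Tr.node (Tr.node (Tr.node (Tr.node (Tr.node (Tr.node (Tr.leaf (0,0,false))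
 (Tr.leaf (17,19,true)))
 (Tr.node (Tr.leaf (16,6,true))
 (Tr.leaf (19,6,true))))
 (Tr.node (Tr.node (Tr.leaf (15,10,false))
 (Tr.leaf (18,7,true)))
 (Tr.node (Tr.leaf (17,3,true))
 (Tr.leaf (19,16,true)))))
 (Tr.node (Tr.node (Tr.node (Tr.leaf (7,1,false))
 (Tr.leaf (17,27,true)))
 (Tr.node (Tr.leaf (16,14,true))
 (Tr.leaf (19,14,true))))
 (Tr.node (Tr.node (Tr.leaf (15,23,false))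
 (Tr.leaf (18,15,true)))
 (Tr.node (Tr.leaf (17,11,true))
 (Tr.leaf (19,16,true))))))
 (Tr.node (Tr.node (Tr.node (Tr.node (Tr.leaf (2,1,false))
 (Tr.leaf (17,23,true)))
 (Tr.node (Tr.leaf (16,10,true))
 (Tr.leaf (19,10,true))))
 (Tr.node (Tr.node (Tr.leaf (15,15,false))
 (Tr.leaf (18,11,true)))
 (Tr.node (Tr.leaf (17,7,true))
 (Tr.leaf (19,16,true)))))
 (Tr.node (Tr.node (Tr.node (Tr.leaf (13,1,false))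
 (Tr.leaf (18,3,true)))
 (Tr.node (Tr.leaf (16,18,true))
 (Tr.leaf (19,16,true))))
 (Tr.node (Tr.node (Tr.leaf (16,2,true))
 (Tr.leaf (19,2,true)))
 (Tr.node (Tr.leaf (17,15,true))
 (Tr.leaf (19,16,true)))))))
 (Tr.node (Tr.node (Tr.node (Tr.node (Tr.node (Tr.leaf (14,0,false))
 (Tr.leaf (17,21,true)))
 (Tr.node (Tr.leaf (16,8,true))
 (Tr.leaf (19,8,true))))
 (Tr.node (Tr.node (Tr.leaf (15,12,false))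
 (Tr.leaf (18,9,true)))
 (Tr.node (Tr.leaf (17,5,true))
 (Tr.leaf (19,16,true)))))
 (Tr.node (Tr.node (Tr.node (Tr.leaf (10,1,false))
 (Tr.leaf (18,1,true)))
 (Tr.node (Tr.leaf (16,16,true))
 (Tr.leaf (19,16,true))))
 (Tr.node (Tr.node (Tr.leaf (16,0,true))
 (Tr.leaf (19,0,true)))
 (Tr.node (Tr.leaf (17,13,true))
 (Tr.leaf (19,16,true))))))
 (Tr.node (Tr.node (Tr.node (Tr.node (Tr.leaf (4,1,false))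
 (Tr.leaf (17,25,true)))
 (Tr.node (Tr.leaf (16,12,true))
 (Tr.leaf (19,12,true))))
 (Tr.node (Tr.node (Tr.leaf (15,19,false))
 (Tr.leaf (18,13,true)))
 (Tr.node (Tr.leaf (17,9,true))
 (Tr.leaf (19,16,true)))))
 (Tr.node (Tr.node (Tr.node (Tr.leaf (15,8,false))
 (Tr.leaf (18,5,true)))
 (Tr.node (Tr.leaf (17,1,true))
 (Tr.leaf (19,16,true))))
 (Tr.node (Tr.node (Tr.leaf (16,4,true))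
 (Tr.leaf (19,4,true)))
 (Tr.node (Tr.leaf (17,17,true))
 (Tr.leaf (19,16,true))))))))
 (Tr.node (Tr.node (Tr.node (Tr.node (Tr.node (Tr.node (Tr.leaf (9,0,false))
 (Tr.leaf (17,20,true)))
 (Tr.node (Tr.leaf (16,7,true))
 (Tr.leaf (19,7,true))))
 (Tr.node (Tr.node (Tr.leaf (15,11,false))
 (Tr.leaf (18,8,true)))
 (Tr.node (Tr.leaf (17,4,true))
 (Tr.leaf (19,16,true)))))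
 (Tr.node (Tr.node (Tr.node (Tr.leaf (8,1,false))
 (Tr.leaf (18,0,true)))
 (Tr.node (Tr.leaf (16,15,true))
 (Tr.leaf (19,15,true))))
 (Tr.node (Tr.node (Tr.leaf (15,25,false))
 (Tr.leaf (18,16,true)))
 (Tr.node (Tr.leaf (17,12,true))
 (Tr.leaf (19,16,true))))))
 (Tr.node (Tr.node (Tr.node (Tr.node (Tr.leaf (3,1,false))
 (Tr.leaf (17,24,true)))
 (Tr.node (Tr.leaf (16,11,true))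
 (Tr.leaf (19,11,true))))
 (Tr.node (Tr.node (Tr.leaf (15,17,false))
 (Tr.leaf (18,12,true)))
 (Tr.node (Tr.leaf (17,8,true))
 (Tr.leaf (19,16,true)))))
 (Tr.node (Tr.node (Tr.node (Tr.leaf (15,7,false))
 (Tr.leaf (18,4,true)))
 (Tr.node (Tr.leaf (17,0,true))
 (Tr.leaf (19,16,true))))
 (Tr.node (Tr.node (Tr.leaf (16,3,true))
 (Tr.leaf (19,3,true)))
 (Tr.node (Tr.leaf (17,16,true))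
 (Tr.leaf (19,16,true)))))))
 (Tr.node (Tr.node (Tr.node (Tr.node (Tr.node (Tr.leaf (1,1,false))
 (Tr.leaf (17,22,true)))
 (Tr.node (Tr.leaf (16,9,true))
 (Tr.leaf (19,9,true))))
 (Tr.node (Tr.node (Tr.leaf (15,13,false))
 (Tr.leaf (18,10,true)))
 (Tr.node (Tr.leaf (17,6,true))
 (Tr.leaf (19,16,true)))))
 (Tr.node (Tr.node (Tr.node (Tr.leaf (11,1,false))
 (Tr.leaf (18,2,true)))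
 (Tr.node (Tr.leaf (16,17,true))
 (Tr.leaf (19,16,true))))
 (Tr.node (Tr.node (Tr.leaf (16,1,true))
 (Tr.leaf (19,1,true)))
 (Tr.node (Tr.leaf (17,14,true))
 (Tr.leaf (19,16,true))))))
 (Tr.node (Tr.node (Tr.node (Tr.node (Tr.leaf (6,1,false))
 (Tr.leaf (17,26,true)))
 (Tr.node (Tr.leaf (16,13,true))
 (Tr.leaf (19,13,true))))
 (Tr.node (Tr.node (Tr.leaf (15,21,false))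
 (Tr.leaf (18,14,true)))
 (Tr.node (Tr.leaf (17,10,true))
 (Tr.leaf (19,16,true)))))
 (Tr.node (Tr.node (Tr.node (Tr.leaf (15,9,false))
 (Tr.leaf (18,6,true)))
 (Tr.node (Tr.leaf (17,2,true))
 (Tr.leaf (19,16,true))))
 (Tr.node (Tr.node (Tr.leaf (16,5,true))
 (Tr.leaf (19,5,true)))
 (Tr.node (Tr.leaf (17,18,true))
 (Tr.leaf (19,16,true))))))))))

/-- The letters. -/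
def ls : List Nat := [0,1,2,3,4]

/-- The smaller letters. -/
def ls' : List Nat := [0,1,2,3]

/-- The inverses. -/
def inv' (c : Nat) : Nat := [0,1,2,3,4].getD c 0

/-- The relators. -/
def rels' : List (List Nat) :=
  [[0,0],
   [1,0,1,0,1,0,1,0,1,0,1,0,1,0,1,0,1,0,1,0],
   [2,0,2,0],
   [3,0,3,0,3,0,3,0],
   [4,0,4,0],
   [1,1],
   [2,1,2,1,2,1],
   [3,1,3,1],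
   [4,1,4,1,4,1],
   [2,2],
   [3,2,3,2],
   [4,2,4,2,4,2,4,2],
   [3,3],
   [4,3,4,3],
   [4,4],
   [0,1,0,1,0,1,0,1,2,1,0,1,0,2,1,0,2,0,1,2,0,1,0,1,2,1],
   [0,1,0,1,0,1,3,0,1,0,2,3,0,3,2,1,0,3,1],
   [0,1,0,1,0,2,1,0,1,0,1,2,1,0,3,0,1,0,2,1,0,1,2,1,0,1,0,3],
   [0,1,0,1,3,0,1,4,1,2,0,2,1,4,0,1,3],
   [0,1,2,1,4,0,3,0,1,2,4,2,4,1,0,3,4]]

/-- The subgroup. -/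
def subs' : List (List Nat) :=
  [[0],[1],[2],[3]]


end Cfsg.Agent.Lib.TC.D.HeH.S1_Tab
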