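import Cfsg.Agent.Lib.TC.Enc

namespace Cfsg.Agent.Lib.TC.D.HeH.S2_T0

open Cfsg.Agent.Lib.TC.Enc

set_option maxRecDepth 100000

/-- A part of a table. -/
noncomputable def tree : Tr Nat :=
  (Tr.node (Tr.node (Tr.leaf (nat_lit 0x64000002101082c10511008a2e0055191000000840051080c82a004cf00123a04002c20e400085000214000850002140e001ca370002140008500021404727630000021010622031c9438b233844d58a0000084041480411330e3cb6607384280000210011310314700102f0118788a0000084003cac00e2902146800d28618000021010316102c9008418003099060000084002c840c3130c18502091d018000021000a1f00246c00819010c458400000840408344040f0e1c5c2840e2100000210007150018480820b0014400200000840010301c209000c28041086000000210100041004183810500081c00000008400040e2c0028a000624000))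
 (Tr.leaf (nat_lit 0x1bc00000840479f842281027e00061836e0000021011c791085f009d7b488a09b60000084046dc80df770e81d405f74)))
 (Tr.node (Tr.leaf (nat_lit 0x6d0000021011a701081d83a27f0a81ccb400000840089f42de6d0269b075e6e6c00000210118670365a83a17a0a75a0b000000840085e02dc6402618c75c650b8000021002071036980edb61015d782c0000084007dbc1db5f0079ac0565c6a80000210115581075a43995a0a65642800000840075980d5560071880545469800002101134e03594809450006d75a000000840441284175102453001a5b078000021001957076154b5548013d1d9c000008404390c0cf450e5d3c0185327000002100174d0340fc08e3d0141041c001ce3b00021400085000214000856480000210109320328d03964b012cd89200000840059242d33e0224c1e5340))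
 (Tr.leaf (nat_lit 0x1bc00000840479f842281027e00061836e0000021011c791085f009d7b488a09b60000084046dc80df770e81d405f74))))

end Cfsg.Agent.Lib.TC.D.HeH.S2_T0
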