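import Cfsg.Agent.Lib.TC.D.HeH.Rels
import Cfsg.Agent.Lib.TC.Chain
import Cfsg.Agent.Lib.TC.D.HeH.S2_T0

namespace Cfsg.Agent.Lib.TC.D.HeH.S2_Tab

open Cfsg.Agent.Lib.TC.Core Cfsg.Agent.Lib.TC.Enc Cfsg.Agent.Lib.TC.Pres Cfsg.Agent.Lib.TC.Perm Cfsg.Agent.Lib.TC.Main Cfsg.Agent.Lib.TC.Chain

set_option maxRecDepth 100000

/-- The chunks of the certificate. -/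
noncomputable def ctree : Tr Nat := Cfsg.Agent.Lib.TC.D.HeH.S2_T0.tree

/-- The relator rotations. -/
noncomputable def rotT : Tr (List Nat) := (Tr.node (Tr.node (Tr.node (Tr.node (Tr.node (Tr.node (Tr.node (Tr.node (Tr.leaf [])
 (Tr.leaf [0,1,0,1,0,3,0,1,0,1,2,1,0,1,2,0,1,0,3,0,1,2,1,0,1,0,1,2]))
 (Tr.node (Tr.leaf [1,0,3,1,0,1,0,1,0,1,3,0,1,2,3,0,3,2,0])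
 (Tr.leaf [0,3,0,1,0,1,2,1,0,1,2,0,1,0,3,0,1,2,1,0,1,0,1,2,0,1,0,1])))
 (Tr.node (Tr.node (Tr.leaf [0,2,0,1,2,0,1,0,1,2,1,0,1,0,1,0,1,0,1,2,1,0,1,0,2,1])
 (Tr.leaf [0,3,0,1,0,1,2,1,0,1,2,0,1,0,3,0,1,2,1,0,1,0,1,2,0,1,0,1]))
 (Tr.node (Tr.leaf [0,1,2,0,1,0,3,0,1,2,1,0,1,0,1,2,0,1,0,1,0,3,0,1,0,1,2,1])
 (Tr.leaf [0,3,0,1,0,1,2,1,0,1,2,0,1,0,3,0,1,2,1,0,1,0,1,2,0,1,0,1]))))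
 (Tr.node (Tr.node (Tr.node (Tr.leaf [2,3,2,3])
 (Tr.leaf [0,3,0,1,0,1,2,1,0,1,2,0,1,0,3,0,1,2,1,0,1,0,1,2,0,1,0,1]))
 (Tr.node (Tr.leaf [0,1,3,0,1,2,3,0,3,2,0,1,0,3,1,0,1,0,1])
 (Tr.leaf [0,3,0,1,0,1,2,1,0,1,2,0,1,0,3,0,1,2,1,0,1,0,1,2,0,1,0,1])))
 (Tr.node (Tr.node (Tr.leaf [0,1,2,3,0,3,2,0,1,0,3,1,0,1,0,1,0,1,3])
 (Tr.leaf [0,3,0,1,0,1,2,1,0,1,2,0,1,0,3,0,1,2,1,0,1,0,1,2,0,1,0,1]))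
 (Tr.node (Tr.leaf [1,2,1,0,1,0,1,2,0,1,0,1,0,3,0,1,0,1,2,1,0,1,2,0,1,0,3,0])
 (Tr.leaf [0,3,0,1,0,1,2,1,0,1,2,0,1,0,3,0,1,2,1,0,1,0,1,2,0,1,0,1])))))
 (Tr.node (Tr.node (Tr.node (Tr.node (Tr.leaf [0,2,0,2])
 (Tr.leaf [0,3,0,1,0,1,2,1,0,1,2,0,1,0,3,0,1,2,1,0,1,0,1,2,0,1,0,1]))
 (Tr.node (Tr.leaf [0,1,0,1,0,1,3,0,1,2,3,0,3,2,0,1,0,3,1])
 (Tr.leaf [0,3,0,1,0,1,2,1,0,1,2,0,1,0,3,0,1,2,1,0,1,0,1,2,0,1,0,1])))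
 (Tr.node (Tr.node (Tr.leaf [1,2,1,0,1,0,1,0,1,0,1,2,1,0,1,0,2,1,0,2,0,1,2,0,1,0])
 (Tr.leaf [0,3,0,1,0,1,2,1,0,1,2,0,1,0,3,0,1,2,1,0,1,0,1,2,0,1,0,1]))
 (Tr.node (Tr.leaf [1,0,3,0,1,2,1,0,1,0,1,2,0,1,0,1,0,3,0,1,0,1,2,1,0,1,2,0])
 (Tr.leaf [0,3,0,1,0,1,2,1,0,1,2,0,1,0,3,0,1,2,1,0,1,0,1,2,0,1,0,1]))))
 (Tr.node (Tr.node (Tr.node (Tr.leaf [0,1,0,2,1,0,2,0,1,2,0,1,0,1,2,1,0,1,0,1,0,1,0,1,2,1])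
 (Tr.leaf [0,3,0,1,0,1,2,1,0,1,2,0,1,0,3,0,1,2,1,0,1,0,1,2,0,1,0,1]))
 (Tr.node (Tr.leaf [0,1,2,1,0,1,2,0,1,0,3,0,1,2,1,0,1,0,1,2,0,1,0,1,0,3,0,1])
 (Tr.leaf [0,3,0,1,0,1,2,1,0,1,2,0,1,0,3,0,1,2,1,0,1,0,1,2,0,1,0,1])))
 (Tr.node (Tr.node (Tr.leaf [0,3,2,0,1,0,3,1,0,1,0,1,0,1,3,0,1,2,3])
 (Tr.leaf [0,3,0,1,0,1,2,1,0,1,2,0,1,0,3,0,1,2,1,0,1,0,1,2,0,1,0,1]))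
 (Tr.node (Tr.leaf [1,0,1,2,0,1,0,1,0,3,0,1,0,1,2,1,0,1,2,0,1,0,3,0,1,2,1,0])
 (Tr.leaf [0,3,0,1,0,1,2,1,0,1,2,0,1,0,3,0,1,2,1,0,1,0,1,2,0,1,0,1]))))))
 (Tr.node (Tr.node (Tr.node (Tr.node (Tr.node (Tr.leaf [3,3])
 (Tr.leaf [0,1,0,3,0,1,0,1,2,1,0,1,2,0,1,0,3,0,1,2,1,0,1,0,1,2,0,1]))
 (Tr.node (Tr.leaf [3,1,0,1,0,1,0,1,3,0,1,2,3,0,3,2,0,1,0])
 (Tr.leaf [0,3,0,1,0,1,2,1,0,1,2,0,1,0,3,0,1,2,1,0,1,0,1,2,0,1,0,1])))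
 (Tr.node (Tr.node (Tr.leaf [2,0,1,0,1,2,1,0,1,0,1,0,1,0,1,2,1,0,1,0,2,1,0,2,0,1])
 (Tr.leaf [0,3,0,1,0,1,2,1,0,1,2,0,1,0,3,0,1,2,1,0,1,0,1,2,0,1,0,1]))
 (Tr.node (Tr.leaf [2,0,1,0,3,0,1,2,1,0,1,0,1,2,0,1,0,1,0,3,0,1,0,1,2,1,0,1])
 (Tr.leaf [0,3,0,1,0,1,2,1,0,1,2,0,1,0,3,0,1,2,1,0,1,0,1,2,0,1,0,1]))))
 (Tr.node (Tr.node (Tr.node (Tr.leaf [2,1,0,1,0,2,1,0,2,0,1,2,0,1,0,1,2,1,0,1,0,1,0,1,0,1])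
 (Tr.leaf [0,3,0,1,0,1,2,1,0,1,2,0,1,0,3,0,1,2,1,0,1,0,1,2,0,1,0,1]))
 (Tr.node (Tr.leaf [0,1,0,1,2,1,0,1,2,0,1,0,3,0,1,2,1,0,1,0,1,2,0,1,0,1,0,3])
 (Tr.leaf [0,3,0,1,0,1,2,1,0,1,2,0,1,0,3,0,1,2,1,0,1,0,1,2,0,1,0,1])))
 (Tr.node (Tr.node (Tr.leaf [2,3,0,3,2,0,1,0,3,1,0,1,0,1,0,1,3,0,1])
 (Tr.leaf [0,3,0,1,0,1,2,1,0,1,2,0,1,0,3,0,1,2,1,0,1,0,1,2,0,1,0,1]))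
 (Tr.node (Tr.leaf [1,0,1,0,1,2,0,1,0,1,0,3,0,1,0,1,2,1,0,1,2,0,1,0,3,0,1,2])
 (Tr.leaf [0,3,0,1,0,1,2,1,0,1,2,0,1,0,3,0,1,2,1,0,1,0,1,2,0,1,0,1])))))
 (Tr.node (Tr.node (Tr.node (Tr.node (Tr.leaf [1,2,1,2,1,2])
 (Tr.leaf [0,3,0,1,0,1,2,1,0,1,2,0,1,0,3,0,1,2,1,0,1,0,1,2,0,1,0,1]))
 (Tr.node (Tr.leaf [0,1,0,1,3,0,1,2,3,0,3,2,0,1,0,3,1,0,1])
 (Tr.leaf [0,3,0,1,0,1,2,1,0,1,2,0,1,0,3,0,1,2,1,0,1,0,1,2,0,1,0,1])))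
 (Tr.node (Tr.node (Tr.leaf [1,3,0,1,2,3,0,3,2,0,1,0,3,1,0,1,0,1,0])
 (Tr.leaf [0,3,0,1,0,1,2,1,0,1,2,0,1,0,3,0,1,2,1,0,1,0,1,2,0,1,0,1]))
 (Tr.node (Tr.leaf [3,0,1,2,1,0,1,0,1,2,0,1,0,1,0,3,0,1,0,1,2,1,0,1,2,0,1,0])
 (Tr.leaf [0,3,0,1,0,1,2,1,0,1,2,0,1,0,3,0,1,2,1,0,1,0,1,2,0,1,0,1]))))
 (Tr.node (Tr.node (Tr.node (Tr.leaf [0,2,1,0,2,0,1,2,0,1,0,1,2,1,0,1,0,1,0,1,0,1,2,1,0,1])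
 (Tr.leaf [0,3,0,1,0,1,2,1,0,1,2,0,1,0,3,0,1,2,1,0,1,0,1,2,0,1,0,1]))
 (Tr.node (Tr.leaf [2,1,0,1,2,0,1,0,3,0,1,2,1,0,1,0,1,2,0,1,0,1,0,3,0,1,0,1])
 (Tr.leaf [0,3,0,1,0,1,2,1,0,1,2,0,1,0,3,0,1,2,1,0,1,0,1,2,0,1,0,1])))
 (Tr.node (Tr.node (Tr.leaf [2,0,1,0,3,1,0,1,0,1,0,1,3,0,1,2,3,0,3])
 (Tr.leaf [0,3,0,1,0,1,2,1,0,1,2,0,1,0,3,0,1,2,1,0,1,0,1,2,0,1,0,1]))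
 (Tr.node (Tr.leaf [1,2,0,1,0,1,0,3,0,1,0,1,2,1,0,1,2,0,1,0,3,0,1,2,1,0,1,0])
 (Tr.leaf [0,3,0,1,0,1,2,1,0,1,2,0,1,0,3,0,1,2,1,0,1,0,1,2,0,1,0,1])))))))
 (Tr.node (Tr.node (Tr.node (Tr.node (Tr.node (Tr.node (Tr.leaf [1,1])
 (Tr.leaf [1,0,1,0,3,0,1,0,1,2,1,0,1,2,0,1,0,3,0,1,2,1,0,1,0,1,2,0]))
 (Tr.node (Tr.leaf [0,3,1,0,1,0,1,0,1,3,0,1,2,3,0,3,2,0,1])
 (Tr.leaf [0,3,0,1,0,1,2,1,0,1,2,0,1,0,3,0,1,2,1,0,1,0,1,2,0,1,0,1])))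
 (Tr.node (Tr.node (Tr.leaf [0,1,2,0,1,0,1,2,1,0,1,0,1,0,1,0,1,2,1,0,1,0,2,1,0,2])
 (Tr.leaf [0,3,0,1,0,1,2,1,0,1,2,0,1,0,3,0,1,2,1,0,1,0,1,2,0,1,0,1]))
 (Tr.node (Tr.leaf [1,2,0,1,0,3,0,1,2,1,0,1,0,1,2,0,1,0,1,0,3,0,1,0,1,2,1,0])
 (Tr.leaf [0,3,0,1,0,1,2,1,0,1,2,0,1,0,3,0,1,2,1,0,1,0,1,2,0,1,0,1]))))
 (Tr.node (Tr.node (Tr.node (Tr.leaf [1,2,1,0,1,0,2,1,0,2,0,1,2,0,1,0,1,2,1,0,1,0,1,0,1,0])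
 (Tr.leaf [0,3,0,1,0,1,2,1,0,1,2,0,1,0,3,0,1,2,1,0,1,0,1,2,0,1,0,1]))
 (Tr.node (Tr.leaf [3,0,1,0,1,2,1,0,1,2,0,1,0,3,0,1,2,1,0,1,0,1,2,0,1,0,1,0])
 (Tr.leaf [0,3,0,1,0,1,2,1,0,1,2,0,1,0,3,0,1,2,1,0,1,0,1,2,0,1,0,1])))
 (Tr.node (Tr.node (Tr.leaf [1,2,3,0,3,2,0,1,0,3,1,0,1,0,1,0,1,3,0])
 (Tr.leaf [0,3,0,1,0,1,2,1,0,1,2,0,1,0,3,0,1,2,1,0,1,0,1,2,0,1,0,1]))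
 (Tr.node (Tr.leaf [2,1,0,1,0,1,2,0,1,0,1,0,3,0,1,0,1,2,1,0,1,2,0,1,0,3,0,1])
 (Tr.leaf [0,3,0,1,0,1,2,1,0,1,2,0,1,0,3,0,1,2,1,0,1,0,1,2,0,1,0,1])))))
 (Tr.node (Tr.node (Tr.node (Tr.node (Tr.leaf [0,3,0,3,0,3,0,3])
 (Tr.leaf [0,3,0,1,0,1,2,1,0,1,2,0,1,0,3,0,1,2,1,0,1,0,1,2,0,1,0,1]))
 (Tr.node (Tr.leaf [1,0,1,0,1,3,0,1,2,3,0,3,2,0,1,0,3,1,0])
 (Tr.leaf [0,3,0,1,0,1,2,1,0,1,2,0,1,0,3,0,1,2,1,0,1,0,1,2,0,1,0,1])))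
 (Tr.node (Tr.node (Tr.leaf [1,0,1,0,1,0,1,0,1,2,1,0,1,0,2,1,0,2,0,1,2,0,1,0,1,2])
 (Tr.leaf [0,3,0,1,0,1,2,1,0,1,2,0,1,0,3,0,1,2,1,0,1,0,1,2,0,1,0,1]))
 (Tr.node (Tr.leaf [0,3,0,1,2,1,0,1,0,1,2,0,1,0,1,0,3,0,1,0,1,2,1,0,1,2,0,1])
 (Tr.leaf [0,3,0,1,0,1,2,1,0,1,2,0,1,0,3,0,1,2,1,0,1,0,1,2,0,1,0,1]))))
 (Tr.node (Tr.node (Tr.node (Tr.leaf [1,0,2,1,0,2,0,1,2,0,1,0,1,2,1,0,1,0,1,0,1,0,1,2,1,0])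
 (Tr.leaf [0,3,0,1,0,1,2,1,0,1,2,0,1,0,3,0,1,2,1,0,1,0,1,2,0,1,0,1]))
 (Tr.node (Tr.leaf [1,2,1,0,1,2,0,1,0,3,0,1,2,1,0,1,0,1,2,0,1,0,1,0,3,0,1,0])
 (Tr.leaf [0,3,0,1,0,1,2,1,0,1,2,0,1,0,3,0,1,2,1,0,1,0,1,2,0,1,0,1])))
 (Tr.node (Tr.node (Tr.leaf [3,2,0,1,0,3,1,0,1,0,1,0,1,3,0,1,2,3,0])
 (Tr.leaf [0,3,0,1,0,1,2,1,0,1,2,0,1,0,3,0,1,2,1,0,1,0,1,2,0,1,0,1]))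
 (Tr.node (Tr.leaf [0,1,2,0,1,0,1,0,3,0,1,0,1,2,1,0,1,2,0,1,0,3,0,1,2,1,0,1])
 (Tr.leaf [0,3,0,1,0,1,2,1,0,1,2,0,1,0,3,0,1,2,1,0,1,0,1,2,0,1,0,1]))))))
 (Tr.node (Tr.node (Tr.node (Tr.node (Tr.node (Tr.leaf [0,1,0,1,0,1,0,1,0,1,0,1,0,1,0,1,0,1,0,1])
 (Tr.leaf [1,0,3,0,1,0,1,2,1,0,1,2,0,1,0,3,0,1,2,1,0,1,0,1,2,0,1,0]))
 (Tr.node (Tr.leaf [1,0,1,0,1,0,1,3,0,1,2,3,0,3,2,0,1,0,3])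
 (Tr.leaf [0,3,0,1,0,1,2,1,0,1,2,0,1,0,3,0,1,2,1,0,1,0,1,2,0,1,0,1])))
 (Tr.node (Tr.node (Tr.leaf [1,0,1,2,1,0,1,0,1,0,1,0,1,2,1,0,1,0,2,1,0,2,0,1,2,0])
 (Tr.leaf [0,3,0,1,0,1,2,1,0,1,2,0,1,0,3,0,1,2,1,0,1,0,1,2,0,1,0,1]))
 (Tr.node (Tr.leaf [0,1,0,3,0,1,2,1,0,1,0,1,2,0,1,0,1,0,3,0,1,0,1,2,1,0,1,2])
 (Tr.leaf [0,3,0,1,0,1,2,1,0,1,2,0,1,0,3,0,1,2,1,0,1,0,1,2,0,1,0,1]))))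
 (Tr.node (Tr.node (Tr.node (Tr.leaf [1,0,1,0,2,1,0,2,0,1,2,0,1,0,1,2,1,0,1,0,1,0,1,0,1,2])
 (Tr.leaf [0,3,0,1,0,1,2,1,0,1,2,0,1,0,3,0,1,2,1,0,1,0,1,2,0,1,0,1]))
 (Tr.node (Tr.leaf [1,0,1,2,1,0,1,2,0,1,0,3,0,1,2,1,0,1,0,1,2,0,1,0,1,0,3,0])
 (Tr.leaf [0,3,0,1,0,1,2,1,0,1,2,0,1,0,3,0,1,2,1,0,1,0,1,2,0,1,0,1])))
 (Tr.node (Tr.node (Tr.leaf [3,0,3,2,0,1,0,3,1,0,1,0,1,0,1,3,0,1,2])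
 (Tr.leaf [0,3,0,1,0,1,2,1,0,1,2,0,1,0,3,0,1,2,1,0,1,0,1,2,0,1,0,1]))
 (Tr.node (Tr.leaf [0,1,0,1,2,0,1,0,1,0,3,0,1,0,1,2,1,0,1,2,0,1,0,3,0,1,2,1])
 (Tr.leaf [0,3,0,1,0,1,2,1,0,1,2,0,1,0,3,0,1,2,1,0,1,0,1,2,0,1,0,1])))))
 (Tr.node (Tr.node (Tr.node (Tr.node (Tr.leaf [1,3,1,3])
 (Tr.leaf [0,3,0,1,0,1,2,1,0,1,2,0,1,0,3,0,1,2,1,0,1,0,1,2,0,1,0,1]))
 (Tr.node (Tr.leaf [1,0,1,3,0,1,2,3,0,3,2,0,1,0,3,1,0,1,0])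
 (Tr.leaf [0,3,0,1,0,1,2,1,0,1,2,0,1,0,3,0,1,2,1,0,1,0,1,2,0,1,0,1])))
 (Tr.node (Tr.node (Tr.leaf [3,0,1,2,3,0,3,2,0,1,0,3,1,0,1,0,1,0,1])
 (Tr.leaf [0,3,0,1,0,1,2,1,0,1,2,0,1,0,3,0,1,2,1,0,1,0,1,2,0,1,0,1]))
 (Tr.node (Tr.leaf [0,1,2,1,0,1,0,1,2,0,1,0,1,0,3,0,1,0,1,2,1,0,1,2,0,1,0,3])
 (Tr.leaf [0,3,0,1,0,1,2,1,0,1,2,0,1,0,3,0,1,2,1,0,1,0,1,2,0,1,0,1]))))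
 (Tr.node (Tr.node (Tr.node (Tr.leaf [2,1,0,2,0,1,2,0,1,0,1,2,1,0,1,0,1,0,1,0,1,2,1,0,1,0])
 (Tr.leaf [0,3,0,1,0,1,2,1,0,1,2,0,1,0,3,0,1,2,1,0,1,0,1,2,0,1,0,1]))
 (Tr.node (Tr.leaf [1,0,1,2,0,1,0,3,0,1,2,1,0,1,0,1,2,0,1,0,1,0,3,0,1,0,1,2])
 (Tr.leaf [0,3,0,1,0,1,2,1,0,1,2,0,1,0,3,0,1,2,1,0,1,0,1,2,0,1,0,1])))
 (Tr.node (Tr.node (Tr.leaf [0,1,0,3,1,0,1,0,1,0,1,3,0,1,2,3,0,3,2])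
 (Tr.leaf [0,3,0,1,0,1,2,1,0,1,2,0,1,0,3,0,1,2,1,0,1,0,1,2,0,1,0,1]))
 (Tr.node (Tr.leaf [2,0,1,0,1,0,3,0,1,0,1,2,1,0,1,2,0,1,0,3,0,1,2,1,0,1,0,1])
 (Tr.leaf [0,3,0,1,0,1,2,1,0,1,2,0,1,0,3,0,1,2,1,0,1,0,1,2,0,1,0,1]))))))))
 (Tr.node (Tr.node (Tr.node (Tr.node (Tr.node (Tr.node (Tr.node (Tr.leaf [0,0])
 (Tr.leaf [0,1,0,3,0,1,0,1,0,2,1,0,1,0,1,2,1,0,3,0,1,0,2,1,0,1,2,1]))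
 (Tr.node (Tr.leaf [3,0,3,2,1,0,3,1,0,1,0,1,0,1,3,0,1,0,2])
 (Tr.leaf [0,3,0,1,0,1,2,1,0,1,2,0,1,0,3,0,1,2,1,0,1,0,1,2,0,1,0,1])))
 (Tr.node (Tr.node (Tr.leaf [2,0,1,2,0,1,0,1,2,1,0,1,0,1,0,1,0,1,2,1,0,1,0,2,1,0])
 (Tr.leaf [0,3,0,1,0,1,2,1,0,1,2,0,1,0,3,0,1,2,1,0,1,0,1,2,0,1,0,1]))
 (Tr.node (Tr.leaf [1,0,1,2,1,0,3,0,1,0,2,1,0,1,2,1,0,1,0,3,0,1,0,1,0,2,1,0])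
 (Tr.leaf [0,3,0,1,0,1,2,1,0,1,2,0,1,0,3,0,1,2,1,0,1,0,1,2,0,1,0,1]))))
 (Tr.node (Tr.node (Tr.node (Tr.leaf [0,1,0,1,0,1,0,1,2,1,0,1,0,2,1,0,2,0,1,2,0,1,0,1,2,1])
 (Tr.leaf [0,3,0,1,0,1,2,1,0,1,2,0,1,0,3,0,1,2,1,0,1,0,1,2,0,1,0,1]))
 (Tr.node (Tr.leaf [0,1,0,1,0,2,1,0,1,0,1,2,1,0,3,0,1,0,2,1,0,1,2,1,0,1,0,3])
 (Tr.leaf [0,3,0,1,0,1,2,1,0,1,2,0,1,0,3,0,1,2,1,0,1,0,1,2,0,1,0,1])))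
 (Tr.node (Tr.node (Tr.leaf [1,0,1,3,0,1,0,2,3,0,3,2,1,0,3,1,0,1,0])
 (Tr.leaf [0,3,0,1,0,1,2,1,0,1,2,0,1,0,3,0,1,2,1,0,1,0,1,2,0,1,0,1]))
 (Tr.node (Tr.leaf [1,0,2,1,0,1,2,1,0,1,0,3,0,1,0,1,0,2,1,0,1,0,1,2,1,0,3,0])
 (Tr.leaf [0,3,0,1,0,1,2,1,0,1,2,0,1,0,3,0,1,2,1,0,1,0,1,2,0,1,0,1])))))
 (Tr.node (Tr.node (Tr.node (Tr.node (Tr.leaf [3,0,3,0,3,0,3,0])
 (Tr.leaf [0,3,0,1,0,1,2,1,0,1,2,0,1,0,3,0,1,2,1,0,1,0,1,2,0,1,0,1]))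
 (Tr.node (Tr.leaf [1,0,3,1,0,1,0,1,0,1,3,0,1,0,2,3,0,3,2])
 (Tr.leaf [0,3,0,1,0,1,2,1,0,1,2,0,1,0,3,0,1,2,1,0,1,0,1,2,0,1,0,1])))
 (Tr.node (Tr.node (Tr.leaf [2,1,0,1,0,1,0,1,0,1,2,1,0,1,0,2,1,0,2,0,1,2,0,1,0,1])
 (Tr.leaf [0,3,0,1,0,1,2,1,0,1,2,0,1,0,3,0,1,2,1,0,1,0,1,2,0,1,0,1]))
 (Tr.node (Tr.leaf [1,0,3,0,1,0,2,1,0,1,2,1,0,1,0,3,0,1,0,1,0,2,1,0,1,0,1,2])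
 (Tr.leaf [0,3,0,1,0,1,2,1,0,1,2,0,1,0,3,0,1,2,1,0,1,0,1,2,0,1,0,1]))))
 (Tr.node (Tr.node (Tr.node (Tr.leaf [0,1,0,1,2,1,0,1,0,2,1,0,2,0,1,2,0,1,0,1,2,1,0,1,0,1])
 (Tr.leaf [0,3,0,1,0,1,2,1,0,1,2,0,1,0,3,0,1,2,1,0,1,0,1,2,0,1,0,1]))
 (Tr.node (Tr.leaf [0,2,1,0,1,0,1,2,1,0,3,0,1,0,2,1,0,1,2,1,0,1,0,3,0,1,0,1])
 (Tr.leaf [0,3,0,1,0,1,2,1,0,1,2,0,1,0,3,0,1,2,1,0,1,0,1,2,0,1,0,1])))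
 (Tr.node (Tr.node (Tr.leaf [0,1,0,2,3,0,3,2,1,0,3,1,0,1,0,1,0,1,3])
 (Tr.leaf [0,3,0,1,0,1,2,1,0,1,2,0,1,0,3,0,1,2,1,0,1,0,1,2,0,1,0,1]))
 (Tr.node (Tr.leaf [0,1,2,1,0,1,0,3,0,1,0,1,0,2,1,0,1,0,1,2,1,0,3,0,1,0,2,1])
 (Tr.leaf [0,3,0,1,0,1,2,1,0,1,2,0,1,0,3,0,1,2,1,0,1,0,1,2,0,1,0,1]))))))
 (Tr.node (Tr.node (Tr.node (Tr.node (Tr.node (Tr.leaf [1,0,1,0,1,0,1,0,1,0,1,0,1,0,1,0,1,0,1,0])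
 (Tr.leaf [0,3,0,1,0,1,0,2,1,0,1,0,1,2,1,0,3,0,1,0,2,1,0,1,2,1,0,1]))
 (Tr.node (Tr.leaf [3,2,1,0,3,1,0,1,0,1,0,1,3,0,1,0,2,3,0])
 (Tr.leaf [0,3,0,1,0,1,2,1,0,1,2,0,1,0,3,0,1,2,1,0,1,0,1,2,0,1,0,1])))
 (Tr.node (Tr.node (Tr.leaf [0,1,0,1,2,1,0,1,0,1,0,1,0,1,2,1,0,1,0,2,1,0,2,0,1,2])
 (Tr.leaf [0,3,0,1,0,1,2,1,0,1,2,0,1,0,3,0,1,2,1,0,1,0,1,2,0,1,0,1]))
 (Tr.node (Tr.leaf [1,2,1,0,3,0,1,0,2,1,0,1,2,1,0,1,0,3,0,1,0,1,0,2,1,0,1,0])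
 (Tr.leaf [0,3,0,1,0,1,2,1,0,1,2,0,1,0,3,0,1,2,1,0,1,0,1,2,0,1,0,1]))))
 (Tr.node (Tr.node (Tr.node (Tr.leaf [0,1,0,1,0,1,2,1,0,1,0,2,1,0,2,0,1,2,0,1,0,1,2,1,0,1])
 (Tr.leaf [0,3,0,1,0,1,2,1,0,1,2,0,1,0,3,0,1,2,1,0,1,0,1,2,0,1,0,1]))
 (Tr.node (Tr.leaf [0,1,0,2,1,0,1,0,1,2,1,0,3,0,1,0,2,1,0,1,2,1,0,1,0,3,0,1])
 (Tr.leaf [0,3,0,1,0,1,2,1,0,1,2,0,1,0,3,0,1,2,1,0,1,0,1,2,0,1,0,1])))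
 (Tr.node (Tr.node (Tr.leaf [1,3,0,1,0,2,3,0,3,2,1,0,3,1,0,1,0,1,0])
 (Tr.leaf [0,3,0,1,0,1,2,1,0,1,2,0,1,0,3,0,1,2,1,0,1,0,1,2,0,1,0,1]))
 (Tr.node (Tr.leaf [2,1,0,1,2,1,0,1,0,3,0,1,0,1,0,2,1,0,1,0,1,2,1,0,3,0,1,0])
 (Tr.leaf [0,3,0,1,0,1,2,1,0,1,2,0,1,0,3,0,1,2,1,0,1,0,1,2,0,1,0,1])))))
 (Tr.node (Tr.node (Tr.node (Tr.node (Tr.leaf [3,1,3,1])
 (Tr.leaf [0,3,0,1,0,1,2,1,0,1,2,0,1,0,3,0,1,2,1,0,1,0,1,2,0,1,0,1]))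
 (Tr.node (Tr.leaf [3,1,0,1,0,1,0,1,3,0,1,0,2,3,0,3,2,1,0])
 (Tr.leaf [0,3,0,1,0,1,2,1,0,1,2,0,1,0,3,0,1,2,1,0,1,0,1,2,0,1,0,1])))
 (Tr.node (Tr.node (Tr.leaf [1,0,1,0,1,3,0,1,0,2,3,0,3,2,1,0,3,1,0])
 (Tr.leaf [0,3,0,1,0,1,2,1,0,1,2,0,1,0,3,0,1,2,1,0,1,0,1,2,0,1,0,1]))
 (Tr.node (Tr.leaf [3,0,1,0,2,1,0,1,2,1,0,1,0,3,0,1,0,1,0,2,1,0,1,0,1,2,1,0])
 (Tr.leaf [0,3,0,1,0,1,2,1,0,1,2,0,1,0,3,0,1,2,1,0,1,0,1,2,0,1,0,1]))))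
 (Tr.node (Tr.node (Tr.node (Tr.leaf [0,1,2,1,0,1,0,2,1,0,2,0,1,2,0,1,0,1,2,1,0,1,0,1,0,1])
 (Tr.leaf [0,3,0,1,0,1,2,1,0,1,2,0,1,0,3,0,1,2,1,0,1,0,1,2,0,1,0,1]))
 (Tr.node (Tr.leaf [1,0,1,0,1,2,1,0,3,0,1,0,2,1,0,1,2,1,0,1,0,3,0,1,0,1,0,2])
 (Tr.leaf [0,3,0,1,0,1,2,1,0,1,2,0,1,0,3,0,1,2,1,0,1,0,1,2,0,1,0,1])))
 (Tr.node (Tr.node (Tr.leaf [0,2,3,0,3,2,1,0,3,1,0,1,0,1,0,1,3,0,1])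
 (Tr.leaf [0,3,0,1,0,1,2,1,0,1,2,0,1,0,3,0,1,2,1,0,1,0,1,2,0,1,0,1]))
 (Tr.node (Tr.leaf [2,1,0,1,0,3,0,1,0,1,0,2,1,0,1,0,1,2,1,0,3,0,1,0,2,1,0,1])
 (Tr.leaf [0,3,0,1,0,1,2,1,0,1,2,0,1,0,3,0,1,2,1,0,1,0,1,2,0,1,0,1])))))))
 (Tr.node (Tr.node (Tr.node (Tr.node (Tr.node (Tr.node (Tr.leaf [2,2])
 (Tr.leaf [1,0,3,0,1,0,1,0,2,1,0,1,0,1,2,1,0,3,0,1,0,2,1,0,1,2,1,0]))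
 (Tr.node (Tr.leaf [0,3,2,1,0,3,1,0,1,0,1,0,1,3,0,1,0,2,3])
 (Tr.leaf [0,3,0,1,0,1,2,1,0,1,2,0,1,0,3,0,1,2,1,0,1,0,1,2,0,1,0,1])))
 (Tr.node (Tr.node (Tr.leaf [1,2,0,1,0,1,2,1,0,1,0,1,0,1,0,1,2,1,0,1,0,2,1,0,2,0])
 (Tr.leaf [0,3,0,1,0,1,2,1,0,1,2,0,1,0,3,0,1,2,1,0,1,0,1,2,0,1,0,1]))
 (Tr.node (Tr.leaf [0,1,2,1,0,3,0,1,0,2,1,0,1,2,1,0,1,0,3,0,1,0,1,0,2,1,0,1])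
 (Tr.leaf [0,3,0,1,0,1,2,1,0,1,2,0,1,0,3,0,1,2,1,0,1,0,1,2,0,1,0,1]))))
 (Tr.node (Tr.node (Tr.node (Tr.leaf [1,0,1,0,1,0,1,2,1,0,1,0,2,1,0,2,0,1,2,0,1,0,1,2,1,0])
 (Tr.leaf [0,3,0,1,0,1,2,1,0,1,2,0,1,0,3,0,1,2,1,0,1,0,1,2,0,1,0,1]))
 (Tr.node (Tr.leaf [1,0,1,0,2,1,0,1,0,1,2,1,0,3,0,1,0,2,1,0,1,2,1,0,1,0,3,0])
 (Tr.leaf [0,3,0,1,0,1,2,1,0,1,2,0,1,0,3,0,1,2,1,0,1,0,1,2,0,1,0,1])))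
 (Tr.node (Tr.node (Tr.leaf [0,1,3,0,1,0,2,3,0,3,2,1,0,3,1,0,1,0,1])
 (Tr.leaf [0,3,0,1,0,1,2,1,0,1,2,0,1,0,3,0,1,2,1,0,1,0,1,2,0,1,0,1]))
 (Tr.node (Tr.leaf [0,2,1,0,1,2,1,0,1,0,3,0,1,0,1,0,2,1,0,1,0,1,2,1,0,3,0,1])
 (Tr.leaf [0,3,0,1,0,1,2,1,0,1,2,0,1,0,3,0,1,2,1,0,1,0,1,2,0,1,0,1])))))
 (Tr.node (Tr.node (Tr.node (Tr.node (Tr.leaf [2,1,2,1,2,1])
 (Tr.leaf [0,3,0,1,0,1,2,1,0,1,2,0,1,0,3,0,1,2,1,0,1,0,1,2,0,1,0,1]))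
 (Tr.node (Tr.leaf [0,3,1,0,1,0,1,0,1,3,0,1,0,2,3,0,3,2,1])
 (Tr.leaf [0,3,0,1,0,1,2,1,0,1,2,0,1,0,3,0,1,2,1,0,1,0,1,2,0,1,0,1])))
 (Tr.node (Tr.node (Tr.leaf [0,1,0,1,0,1,3,0,1,0,2,3,0,3,2,1,0,3,1])
 (Tr.leaf [0,3,0,1,0,1,2,1,0,1,2,0,1,0,3,0,1,2,1,0,1,0,1,2,0,1,0,1]))
 (Tr.node (Tr.leaf [0,3,0,1,0,2,1,0,1,2,1,0,1,0,3,0,1,0,1,0,2,1,0,1,0,1,2,1])
 (Tr.leaf [0,3,0,1,0,1,2,1,0,1,2,0,1,0,3,0,1,2,1,0,1,0,1,2,0,1,0,1]))))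
 (Tr.node (Tr.node (Tr.node (Tr.leaf [1,0,1,2,1,0,1,0,2,1,0,2,0,1,2,0,1,0,1,2,1,0,1,0,1,0])
 (Tr.leaf [0,3,0,1,0,1,2,1,0,1,2,0,1,0,3,0,1,2,1,0,1,0,1,2,0,1,0,1]))
 (Tr.node (Tr.leaf [2,1,0,1,0,1,2,1,0,3,0,1,0,2,1,0,1,2,1,0,1,0,3,0,1,0,1,0])
 (Tr.leaf [0,3,0,1,0,1,2,1,0,1,2,0,1,0,3,0,1,2,1,0,1,0,1,2,0,1,0,1])))
 (Tr.node (Tr.node (Tr.leaf [1,0,2,3,0,3,2,1,0,3,1,0,1,0,1,0,1,3,0])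
 (Tr.leaf [0,3,0,1,0,1,2,1,0,1,2,0,1,0,3,0,1,2,1,0,1,0,1,2,0,1,0,1]))
 (Tr.node (Tr.leaf [1,2,1,0,1,0,3,0,1,0,1,0,2,1,0,1,0,1,2,1,0,3,0,1,0,2,1,0])
 (Tr.leaf [0,3,0,1,0,1,2,1,0,1,2,0,1,0,3,0,1,2,1,0,1,0,1,2,0,1,0,1]))))))
 (Tr.node (Tr.node (Tr.node (Tr.node (Tr.node (Tr.leaf [2,0,2,0])
 (Tr.leaf [3,0,1,0,1,0,2,1,0,1,0,1,2,1,0,3,0,1,0,2,1,0,1,2,1,0,1,0]))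
 (Tr.node (Tr.leaf [2,1,0,3,1,0,1,0,1,0,1,3,0,1,0,2,3,0,3])
 (Tr.leaf [0,3,0,1,0,1,2,1,0,1,2,0,1,0,3,0,1,2,1,0,1,0,1,2,0,1,0,1])))
 (Tr.node (Tr.node (Tr.leaf [0,1,2,1,0,1,0,1,0,1,0,1,2,1,0,1,0,2,1,0,2,0,1,2,0,1])
 (Tr.leaf [0,3,0,1,0,1,2,1,0,1,2,0,1,0,3,0,1,2,1,0,1,0,1,2,0,1,0,1]))
 (Tr.node (Tr.leaf [2,1,0,3,0,1,0,2,1,0,1,2,1,0,1,0,3,0,1,0,1,0,2,1,0,1,0,1])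
 (Tr.leaf [0,3,0,1,0,1,2,1,0,1,2,0,1,0,3,0,1,2,1,0,1,0,1,2,0,1,0,1]))))
 (Tr.node (Tr.node (Tr.node (Tr.leaf [1,0,1,0,1,2,1,0,1,0,2,1,0,2,0,1,2,0,1,0,1,2,1,0,1,0])
 (Tr.leaf [0,3,0,1,0,1,2,1,0,1,2,0,1,0,3,0,1,2,1,0,1,0,1,2,0,1,0,1]))
 (Tr.node (Tr.leaf [1,0,2,1,0,1,0,1,2,1,0,3,0,1,0,2,1,0,1,2,1,0,1,0,3,0,1,0])
 (Tr.leaf [0,3,0,1,0,1,2,1,0,1,2,0,1,0,3,0,1,2,1,0,1,0,1,2,0,1,0,1])))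
 (Tr.node (Tr.node (Tr.leaf [3,0,1,0,2,3,0,3,2,1,0,3,1,0,1,0,1,0,1])
 (Tr.leaf [0,3,0,1,0,1,2,1,0,1,2,0,1,0,3,0,1,2,1,0,1,0,1,2,0,1,0,1]))
 (Tr.node (Tr.leaf [1,0,1,2,1,0,1,0,3,0,1,0,1,0,2,1,0,1,0,1,2,1,0,3,0,1,0,2])
 (Tr.leaf [0,3,0,1,0,1,2,1,0,1,2,0,1,0,3,0,1,2,1,0,1,0,1,2,0,1,0,1])))))
 (Tr.node (Tr.node (Tr.node (Tr.node (Tr.leaf [3,2,3,2])
 (Tr.leaf [0,3,0,1,0,1,2,1,0,1,2,0,1,0,3,0,1,2,1,0,1,0,1,2,0,1,0,1]))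
 (Tr.node (Tr.leaf [1,0,1,0,1,0,1,3,0,1,0,2,3,0,3,2,1,0,3])
 (Tr.leaf [0,3,0,1,0,1,2,1,0,1,2,0,1,0,3,0,1,2,1,0,1,0,1,2,0,1,0,1])))
 (Tr.node (Tr.node (Tr.leaf [0,1,0,1,3,0,1,0,2,3,0,3,2,1,0,3,1,0,1])
 (Tr.leaf [0,3,0,1,0,1,2,1,0,1,2,0,1,0,3,0,1,2,1,0,1,0,1,2,0,1,0,1]))
 (Tr.node (Tr.leaf [0,1,0,2,1,0,1,2,1,0,1,0,3,0,1,0,1,0,2,1,0,1,0,1,2,1,0,3])
 (Tr.leaf [0,3,0,1,0,1,2,1,0,1,2,0,1,0,3,0,1,2,1,0,1,0,1,2,0,1,0,1]))))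
 (Tr.node (Tr.node (Tr.node (Tr.leaf [1,0,2,0,1,2,0,1,0,1,2,1,0,1,0,1,0,1,0,1,2,1,0,1,0,2])
 (Tr.leaf [0,3,0,1,0,1,2,1,0,1,2,0,1,0,3,0,1,2,1,0,1,0,1,2,0,1,0,1]))
 (Tr.node (Tr.leaf [0,1,0,1,2,1,0,3,0,1,0,2,1,0,1,2,1,0,1,0,3,0,1,0,1,0,2,1])
 (Tr.leaf [0,3,0,1,0,1,2,1,0,1,2,0,1,0,3,0,1,2,1,0,1,0,1,2,0,1,0,1])))
 (Tr.node (Tr.node (Tr.leaf [2,3,0,3,2,1,0,3,1,0,1,0,1,0,1,3,0,1,0])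
 (Tr.leaf [0,3,0,1,0,1,2,1,0,1,2,0,1,0,3,0,1,2,1,0,1,0,1,2,0,1,0,1]))
 (Tr.node (Tr.leaf [1,0,1,0,3,0,1,0,1,0,2,1,0,1,0,1,2,1,0,3,0,1,0,2,1,0,1,2])
 (Tr.leaf [0,3,0,1,0,1,2,1,0,1,2,0,1,0,3,0,1,2,1,0,1,0,1,2,0,1,0,1])))))))))

/-- The subgroup rotations. -/
noncomputable def srotT : Tr (List Nat × Nat × List Nat) := (Tr.node (Tr.node (Tr.leaf ([],0,[]))
 (Tr.leaf ([],2,[])))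
 (Tr.node (Tr.leaf ([],1,[]))
 (Tr.leaf ([],2,[]))))

/-- The certificate. -/
noncomputable def cert : Cert :=
  mkCert 4 35 132 3 137 140 4 15 126 22 88 117 4194303 536870911 8 6 255 63 14 12 7 ctree.get rotT.get srotT.get

/-- The witnesses of the rotations. -/
noncomputable def witT : Tr (Nat × Nat × Bool) := (Tr.node (Tr.node (Tr.node (Tr.node (Tr.node (Tr.node (Tr.node (Tr.node (Tr.leaf (0,0,false))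
 (Tr.leaf (12,23,true)))
 (Tr.node (Tr.leaf (11,10,true))
 (Tr.leaf (12,27,true))))
 (Tr.node (Tr.node (Tr.leaf (10,15,false))
 (Tr.leaf (12,27,true)))
 (Tr.node (Tr.leaf (12,7,true))
 (Tr.leaf (12,27,true)))))
 (Tr.node (Tr.node (Tr.node (Tr.leaf (8,1,false))
 (Tr.leaf (12,27,true)))
 (Tr.node (Tr.leaf (11,18,true))
 (Tr.leaf (12,27,true))))
 (Tr.node (Tr.node (Tr.leaf (11,2,true))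
 (Tr.leaf (12,27,true)))
 (Tr.node (Tr.leaf (12,15,true))
 (Tr.leaf (12,27,true))))))
 (Tr.node (Tr.node (Tr.node (Tr.node (Tr.leaf (2,1,false))
 (Tr.leaf (12,27,true)))
 (Tr.node (Tr.leaf (11,14,true))
 (Tr.leaf (12,27,true))))
 (Tr.node (Tr.node (Tr.leaf (10,23,false))
 (Tr.leaf (12,27,true)))
 (Tr.node (Tr.leaf (12,11,true))
 (Tr.leaf (12,27,true)))))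
 (Tr.node (Tr.node (Tr.node (Tr.leaf (10,10,false))
 (Tr.leaf (12,27,true)))
 (Tr.node (Tr.leaf (12,3,true))
 (Tr.leaf (12,27,true))))
 (Tr.node (Tr.node (Tr.leaf (11,6,true))
 (Tr.leaf (12,27,true)))
 (Tr.node (Tr.leaf (12,19,true))
 (Tr.leaf (12,27,true)))))))
 (Tr.node (Tr.node (Tr.node (Tr.node (Tr.node (Tr.leaf (9,0,false))
 (Tr.leaf (12,25,true)))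
 (Tr.node (Tr.leaf (11,12,true))
 (Tr.leaf (12,27,true))))
 (Tr.node (Tr.node (Tr.leaf (10,19,false))
 (Tr.leaf (12,27,true)))
 (Tr.node (Tr.leaf (12,9,true))
 (Tr.leaf (12,27,true)))))
 (Tr.node (Tr.node (Tr.node (Tr.leaf (10,8,false))
 (Tr.leaf (12,27,true)))
 (Tr.node (Tr.leaf (12,1,true))
 (Tr.leaf (12,27,true))))
 (Tr.node (Tr.node (Tr.leaf (11,4,true))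
 (Tr.leaf (12,27,true)))
 (Tr.node (Tr.leaf (12,17,true))
 (Tr.leaf (12,27,true))))))
 (Tr.node (Tr.node (Tr.node (Tr.node (Tr.leaf (5,1,false))
 (Tr.leaf (12,27,true)))
 (Tr.node (Tr.leaf (11,16,true))
 (Tr.leaf (12,27,true))))
 (Tr.node (Tr.node (Tr.leaf (11,0,true))
 (Tr.leaf (12,27,true)))
 (Tr.node (Tr.leaf (12,13,true))
 (Tr.leaf (12,27,true)))))
 (Tr.node (Tr.node (Tr.node (Tr.leaf (10,12,false))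
 (Tr.leaf (12,27,true)))
 (Tr.node (Tr.leaf (12,5,true))
 (Tr.leaf (12,27,true))))
 (Tr.node (Tr.node (Tr.leaf (11,8,true))
 (Tr.leaf (12,27,true)))
 (Tr.node (Tr.leaf (12,21,true))
 (Tr.leaf (12,27,true))))))))
 (Tr.node (Tr.node (Tr.node (Tr.node (Tr.node (Tr.node (Tr.leaf (4,0,false))
 (Tr.leaf (12,24,true)))
 (Tr.node (Tr.leaf (11,11,true))
 (Tr.leaf (12,27,true))))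
 (Tr.node (Tr.node (Tr.leaf (10,17,false))
 (Tr.leaf (12,27,true)))
 (Tr.node (Tr.leaf (12,8,true))
 (Tr.leaf (12,27,true)))))
 (Tr.node (Tr.node (Tr.node (Tr.leaf (10,7,false))
 (Tr.leaf (12,27,true)))
 (Tr.node (Tr.leaf (12,0,true))
 (Tr.leaf (12,27,true))))
 (Tr.node (Tr.node (Tr.leaf (11,3,true))
 (Tr.leaf (12,27,true)))
 (Tr.node (Tr.leaf (12,16,true))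
 (Tr.leaf (12,27,true))))))
 (Tr.node (Tr.node (Tr.node (Tr.node (Tr.leaf (3,1,false))
 (Tr.leaf (12,27,true)))
 (Tr.node (Tr.leaf (11,15,true))
 (Tr.leaf (12,27,true))))
 (Tr.node (Tr.node (Tr.leaf (10,25,false))
 (Tr.leaf (12,27,true)))
 (Tr.node (Tr.leaf (12,12,true))
 (Tr.leaf (12,27,true)))))
 (Tr.node (Tr.node (Tr.node (Tr.leaf (10,11,false))
 (Tr.leaf (12,27,true)))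
 (Tr.node (Tr.leaf (12,4,true))
 (Tr.leaf (12,27,true))))
 (Tr.node (Tr.node (Tr.leaf (11,7,true))
 (Tr.leaf (12,27,true)))
 (Tr.node (Tr.leaf (12,20,true))
 (Tr.leaf (12,27,true)))))))
 (Tr.node (Tr.node (Tr.node (Tr.node (Tr.node (Tr.leaf (1,1,false))
 (Tr.leaf (12,26,true)))
 (Tr.node (Tr.leaf (11,13,true))
 (Tr.leaf (12,27,true))))
 (Tr.node (Tr.node (Tr.leaf (10,21,false))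
 (Tr.leaf (12,27,true)))
 (Tr.node (Tr.leaf (12,10,true))
 (Tr.leaf (12,27,true)))))
 (Tr.node (Tr.node (Tr.node (Tr.leaf (10,9,false))
 (Tr.leaf (12,27,true)))
 (Tr.node (Tr.leaf (12,2,true))
 (Tr.leaf (12,27,true))))
 (Tr.node (Tr.node (Tr.leaf (11,5,true))
 (Tr.leaf (12,27,true)))
 (Tr.node (Tr.leaf (12,18,true))
 (Tr.leaf (12,27,true))))))
 (Tr.node (Tr.node (Tr.node (Tr.node (Tr.leaf (6,1,false))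
 (Tr.leaf (12,27,true)))
 (Tr.node (Tr.leaf (11,17,true))
 (Tr.leaf (12,27,true))))
 (Tr.node (Tr.node (Tr.leaf (11,1,true))
 (Tr.leaf (12,27,true)))
 (Tr.node (Tr.leaf (12,14,true))
 (Tr.leaf (12,27,true)))))
 (Tr.node (Tr.node (Tr.node (Tr.leaf (10,13,false))
 (Tr.leaf (12,27,true)))
 (Tr.node (Tr.leaf (12,6,true))
 (Tr.leaf (12,27,true))))
 (Tr.node (Tr.node (Tr.leaf (11,9,true))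
 (Tr.leaf (12,27,true)))
 (Tr.node (Tr.leaf (12,22,true))
 (Tr.leaf (12,27,true)))))))))
 (Tr.node (Tr.node (Tr.node (Tr.node (Tr.node (Tr.node (Tr.node (Tr.leaf (0,0,false))
 (Tr.leaf (12,24,false)))
 (Tr.node (Tr.leaf (11,11,false))
 (Tr.leaf (12,27,true))))
 (Tr.node (Tr.node (Tr.leaf (10,16,false))
 (Tr.leaf (12,27,true)))
 (Tr.node (Tr.leaf (12,8,false))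
 (Tr.leaf (12,27,true)))))
 (Tr.node (Tr.node (Tr.node (Tr.leaf (10,0,false))
 (Tr.leaf (12,27,true)))
 (Tr.node (Tr.leaf (12,0,false))
 (Tr.leaf (12,27,true))))
 (Tr.node (Tr.node (Tr.leaf (11,3,false))
 (Tr.leaf (12,27,true)))
 (Tr.node (Tr.leaf (12,16,false))
 (Tr.leaf (12,27,true))))))
 (Tr.node (Tr.node (Tr.node (Tr.node (Tr.leaf (3,0,false))
 (Tr.leaf (12,27,true)))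
 (Tr.node (Tr.leaf (11,15,false))
 (Tr.leaf (12,27,true))))
 (Tr.node (Tr.node (Tr.leaf (10,24,false))
 (Tr.leaf (12,27,true)))
 (Tr.node (Tr.leaf (12,12,false))
 (Tr.leaf (12,27,true)))))
 (Tr.node (Tr.node (Tr.node (Tr.leaf (10,4,false))
 (Tr.leaf (12,27,true)))
 (Tr.node (Tr.leaf (12,4,false))
 (Tr.leaf (12,27,true))))
 (Tr.node (Tr.node (Tr.leaf (11,7,false))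
 (Tr.leaf (12,27,true)))
 (Tr.node (Tr.leaf (12,20,false))
 (Tr.leaf (12,27,true)))))))
 (Tr.node (Tr.node (Tr.node (Tr.node (Tr.node (Tr.leaf (1,0,false))
 (Tr.leaf (12,26,false)))
 (Tr.node (Tr.leaf (11,13,false))
 (Tr.leaf (12,27,true))))
 (Tr.node (Tr.node (Tr.leaf (10,20,false))
 (Tr.leaf (12,27,true)))
 (Tr.node (Tr.leaf (12,10,false))
 (Tr.leaf (12,27,true)))))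
 (Tr.node (Tr.node (Tr.node (Tr.leaf (10,2,false))
 (Tr.leaf (12,27,true)))
 (Tr.node (Tr.leaf (12,2,false))
 (Tr.leaf (12,27,true))))
 (Tr.node (Tr.node (Tr.leaf (11,5,false))
 (Tr.leaf (12,27,true)))
 (Tr.node (Tr.leaf (12,18,false))
 (Tr.leaf (12,27,true))))))
 (Tr.node (Tr.node (Tr.node (Tr.node (Tr.leaf (6,0,false))
 (Tr.leaf (12,27,true)))
 (Tr.node (Tr.leaf (11,17,false))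
 (Tr.leaf (12,27,true))))
 (Tr.node (Tr.node (Tr.leaf (11,1,false))
 (Tr.leaf (12,27,true)))
 (Tr.node (Tr.leaf (12,14,false))
 (Tr.leaf (12,27,true)))))
 (Tr.node (Tr.node (Tr.node (Tr.leaf (10,6,false))
 (Tr.leaf (12,27,true)))
 (Tr.node (Tr.leaf (12,6,false))
 (Tr.leaf (12,27,true))))
 (Tr.node (Tr.node (Tr.leaf (11,9,false))
 (Tr.leaf (12,27,true)))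
 (Tr.node (Tr.leaf (12,22,false))
 (Tr.leaf (12,27,true))))))))
 (Tr.node (Tr.node (Tr.node (Tr.node (Tr.node (Tr.node (Tr.leaf (7,0,false))
 (Tr.leaf (12,25,false)))
 (Tr.node (Tr.leaf (11,12,false))
 (Tr.leaf (12,27,true))))
 (Tr.node (Tr.node (Tr.leaf (10,18,false))
 (Tr.leaf (12,27,true)))
 (Tr.node (Tr.leaf (12,9,false))
 (Tr.leaf (12,27,true)))))
 (Tr.node (Tr.node (Tr.node (Tr.leaf (10,1,false))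
 (Tr.leaf (12,27,true)))
 (Tr.node (Tr.leaf (12,1,false))
 (Tr.leaf (12,27,true))))
 (Tr.node (Tr.node (Tr.leaf (11,4,false))
 (Tr.leaf (12,27,true)))
 (Tr.node (Tr.leaf (12,17,false))
 (Tr.leaf (12,27,true))))))
 (Tr.node (Tr.node (Tr.node (Tr.node (Tr.leaf (5,0,false))
 (Tr.leaf (12,27,true)))
 (Tr.node (Tr.leaf (11,16,false))
 (Tr.leaf (12,27,true))))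
 (Tr.node (Tr.node (Tr.leaf (11,0,false))
 (Tr.leaf (12,27,true)))
 (Tr.node (Tr.leaf (12,13,false))
 (Tr.leaf (12,27,true)))))
 (Tr.node (Tr.node (Tr.node (Tr.leaf (10,5,false))
 (Tr.leaf (12,27,true)))
 (Tr.node (Tr.leaf (12,5,false))
 (Tr.leaf (12,27,true))))
 (Tr.node (Tr.node (Tr.leaf (11,8,false))
 (Tr.leaf (12,27,true)))
 (Tr.node (Tr.leaf (12,21,false))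
 (Tr.leaf (12,27,true)))))))
 (Tr.node (Tr.node (Tr.node (Tr.node (Tr.node (Tr.leaf (2,0,false))
 (Tr.leaf (12,27,false)))
 (Tr.node (Tr.leaf (11,14,false))
 (Tr.leaf (12,27,true))))
 (Tr.node (Tr.node (Tr.leaf (10,22,false))
 (Tr.leaf (12,27,true)))
 (Tr.node (Tr.leaf (12,11,false))
 (Tr.leaf (12,27,true)))))
 (Tr.node (Tr.node (Tr.node (Tr.leaf (10,3,false))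
 (Tr.leaf (12,27,true)))
 (Tr.node (Tr.leaf (12,3,false))
 (Tr.leaf (12,27,true))))
 (Tr.node (Tr.node (Tr.leaf (11,6,false))
 (Tr.leaf (12,27,true)))
 (Tr.node (Tr.leaf (12,19,false))
 (Tr.leaf (12,27,true))))))
 (Tr.node (Tr.node (Tr.node (Tr.node (Tr.leaf (8,0,false))
 (Tr.leaf (12,27,true)))
 (Tr.node (Tr.leaf (11,18,false))
 (Tr.leaf (12,27,true))))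
 (Tr.node (Tr.node (Tr.leaf (11,2,false))
 (Tr.leaf (12,27,true)))
 (Tr.node (Tr.leaf (12,15,false))
 (Tr.leaf (12,27,true)))))
 (Tr.node (Tr.node (Tr.node (Tr.leaf (10,14,false))
 (Tr.leaf (12,27,true)))
 (Tr.node (Tr.leaf (12,7,false))
 (Tr.leaf (12,27,true))))
 (Tr.node (Tr.node (Tr.leaf (11,10,false))
 (Tr.leaf (12,27,true)))
 (Tr.node (Tr.leaf (12,23,false))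
 (Tr.leaf (12,27,true))))))))))

/-- The letters. -/
def ls : List Nat := [0,1,2,3]

/-- The smaller letters. -/
def ls' : List Nat := [0,1,2]

/-- The inverses. -/
def inv' (c : Nat) : Nat := [0,1,2,3].getD c 0

/-- The relators. -/
def rels' : List (List Nat) :=
  [[0,0],
   [1,0,1,0,1,0,1,0,1,0,1,0,1,0,1,0,1,0,1,0],
   [2,0,2,0],
   [3,0,3,0,3,0,3,0],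
   [1,1],
   [2,1,2,1,2,1],
   [3,1,3,1],
   [2,2],
   [3,2,3,2],
   [3,3],
   [0,1,0,1,0,1,0,1,2,1,0,1,0,2,1,0,2,0,1,2,0,1,0,1,2,1],
   [0,1,0,1,0,1,3,0,1,0,2,3,0,3,2,1,0,3,1],
   [0,1,0,1,0,2,1,0,1,0,1,2,1,0,3,0,1,0,2,1,0,1,2,1,0,1,0,3]]

/-- The subgroup. -/
def subs' : List (List Nat) :=
  [[0],[1],[2]]


end Cfsg.Agent.Lib.TC.D.HeH.S2_Tab
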