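import Cfsg.Agent.Lib.TC.D.HeH.Rels
import Cfsg.Agent.Lib.TC.Chain
import Cfsg.Agent.Lib.TC.D.HeH.S3_T0

namespace Cfsg.Agent.Lib.TC.D.HeH.S3_Tab

open Cfsg.Agent.Lib.TC.Core Cfsg.Agent.Lib.TC.Enc Cfsg.Agent.Lib.TC.Pres Cfsg.Agent.Lib.TC.Perm Cfsg.Agent.Lib.TC.Main Cfsg.Agent.Lib.TC.Chain

set_option maxRecDepth 100000

/-- The chunks of the certificate. -/
noncomputable def ctree : Tr Nat := Cfsg.Agent.Lib.TC.D.HeH.S3_T0.tree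

/-- The relator rotations. -/
noncomputable def rotT : Tr (List Nat) := (Tr.node (Tr.node (Tr.node (Tr.node (Tr.node (Tr.node (Tr.leaf [])
 (Tr.leaf [0,1,2,1,0,1,0,1,0,1,0,1,2,1,0,1,0,2,1,0,2,0,1,2,0,1]))
 (Tr.node (Tr.leaf [1,0,1,0,1,2,1,0,1,0,2,1,0,2,0,1,2,0,1,0,1,2,1,0,1,0])
 (Tr.leaf [1,0,1,0,1,0,1,0,1,2,1,0,1,0,2,1,0,2,0,1,2,0,1,0,1,2])))
 (Tr.node (Tr.node (Tr.leaf [2,1,2,1,2,1])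
 (Tr.leaf [1,0,1,0,1,0,1,0,1,2,1,0,1,0,2,1,0,2,0,1,2,0,1,0,1,2]))
 (Tr.node (Tr.leaf [1,0,2,0,1,2,0,1,0,1,2,1,0,1,0,1,0,1,0,1,2,1,0,1,0,2])
 (Tr.leaf [1,0,1,0,1,0,1,0,1,2,1,0,1,0,2,1,0,2,0,1,2,0,1,0,1,2]))))
 (Tr.node (Tr.node (Tr.node (Tr.leaf [1,0,1,0,1,0,1,0,1,0,1,0,1,0,1,0,1,0,1,0])
 (Tr.leaf [1,0,1,0,1,0,1,0,1,2,1,0,1,0,2,1,0,2,0,1,2,0,1,0,1,2]))
 (Tr.node (Tr.leaf [1,0,1,2,1,0,1,0,2,1,0,2,0,1,2,0,1,0,1,2,1,0,1,0,1,0])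
 (Tr.leaf [1,0,1,0,1,0,1,0,1,2,1,0,1,0,2,1,0,2,0,1,2,0,1,0,1,2])))
 (Tr.node (Tr.node (Tr.leaf [1,0,1,0,1,0,1,2,1,0,1,0,2,1,0,2,0,1,2,0,1,0,1,2,1,0])
 (Tr.leaf [1,0,1,0,1,0,1,0,1,2,1,0,1,0,2,1,0,2,0,1,2,0,1,0,1,2]))
 (Tr.node (Tr.leaf [1,2,0,1,0,1,2,1,0,1,0,1,0,1,0,1,2,1,0,1,0,2,1,0,2,0])
 (Tr.leaf [1,0,1,0,1,0,1,0,1,2,1,0,1,0,2,1,0,2,0,1,2,0,1,0,1,2])))))
 (Tr.node (Tr.node (Tr.node (Tr.node (Tr.leaf [1,1])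
 (Tr.leaf [2,1,0,1,0,1,0,1,0,1,2,1,0,1,0,2,1,0,2,0,1,2,0,1,0,1]))
 (Tr.node (Tr.leaf [0,1,0,1,2,1,0,1,0,2,1,0,2,0,1,2,0,1,0,1,2,1,0,1,0,1])
 (Tr.leaf [1,0,1,0,1,0,1,0,1,2,1,0,1,0,2,1,0,2,0,1,2,0,1,0,1,2])))
 (Tr.node (Tr.node (Tr.leaf [0,1,0,1,0,1,0,1,2,1,0,1,0,2,1,0,2,0,1,2,0,1,0,1,2,1])
 (Tr.leaf [1,0,1,0,1,0,1,0,1,2,1,0,1,0,2,1,0,2,0,1,2,0,1,0,1,2]))
 (Tr.node (Tr.leaf [2,0,1,2,0,1,0,1,2,1,0,1,0,1,0,1,0,1,2,1,0,1,0,2,1,0])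
 (Tr.leaf [1,0,1,0,1,0,1,0,1,2,1,0,1,0,2,1,0,2,0,1,2,0,1,0,1,2]))))
 (Tr.node (Tr.node (Tr.node (Tr.leaf [2,0,2,0])
 (Tr.leaf [1,0,1,0,1,0,1,0,1,2,1,0,1,0,2,1,0,2,0,1,2,0,1,0,1,2]))
 (Tr.node (Tr.leaf [0,1,2,1,0,1,0,2,1,0,2,0,1,2,0,1,0,1,2,1,0,1,0,1,0,1])
 (Tr.leaf [1,0,1,0,1,0,1,0,1,2,1,0,1,0,2,1,0,2,0,1,2,0,1,0,1,2])))
 (Tr.node (Tr.node (Tr.leaf [0,1,0,1,0,1,2,1,0,1,0,2,1,0,2,0,1,2,0,1,0,1,2,1,0,1])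
 (Tr.leaf [1,0,1,0,1,0,1,0,1,2,1,0,1,0,2,1,0,2,0,1,2,0,1,0,1,2]))
 (Tr.node (Tr.leaf [0,1,0,1,2,1,0,1,0,1,0,1,0,1,2,1,0,1,0,2,1,0,2,0,1,2])
 (Tr.leaf [1,0,1,0,1,0,1,0,1,2,1,0,1,0,2,1,0,2,0,1,2,0,1,0,1,2]))))))
 (Tr.node (Tr.node (Tr.node (Tr.node (Tr.node (Tr.leaf [0,0])
 (Tr.leaf [1,2,1,0,1,0,1,0,1,0,1,2,1,0,1,0,2,1,0,2,0,1,2,0,1,0]))
 (Tr.node (Tr.leaf [0,1,0,2,1,0,2,0,1,2,0,1,0,1,2,1,0,1,0,1,0,1,0,1,2,1])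
 (Tr.leaf [1,0,1,0,1,0,1,0,1,2,1,0,1,0,2,1,0,2,0,1,2,0,1,0,1,2])))
 (Tr.node (Tr.node (Tr.leaf [1,2,1,2,1,2])
 (Tr.leaf [1,0,1,0,1,0,1,0,1,2,1,0,1,0,2,1,0,2,0,1,2,0,1,0,1,2]))
 (Tr.node (Tr.leaf [0,2,0,1,2,0,1,0,1,2,1,0,1,0,1,0,1,0,1,2,1,0,1,0,2,1])
 (Tr.leaf [1,0,1,0,1,0,1,0,1,2,1,0,1,0,2,1,0,2,0,1,2,0,1,0,1,2]))))
 (Tr.node (Tr.node (Tr.node (Tr.leaf [0,1,0,1,0,1,0,1,0,1,0,1,0,1,0,1,0,1,0,1])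
 (Tr.leaf [1,0,1,0,1,0,1,0,1,2,1,0,1,0,2,1,0,2,0,1,2,0,1,0,1,2]))
 (Tr.node (Tr.leaf [0,2,1,0,2,0,1,2,0,1,0,1,2,1,0,1,0,1,0,1,0,1,2,1,0,1])
 (Tr.leaf [1,0,1,0,1,0,1,0,1,2,1,0,1,0,2,1,0,2,0,1,2,0,1,0,1,2])))
 (Tr.node (Tr.node (Tr.leaf [2,1,0,1,0,2,1,0,2,0,1,2,0,1,0,1,2,1,0,1,0,1,0,1,0,1])
 (Tr.leaf [1,0,1,0,1,0,1,0,1,2,1,0,1,0,2,1,0,2,0,1,2,0,1,0,1,2]))
 (Tr.node (Tr.leaf [2,0,1,0,1,2,1,0,1,0,1,0,1,0,1,2,1,0,1,0,2,1,0,2,0,1])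
 (Tr.leaf [1,0,1,0,1,0,1,0,1,2,1,0,1,0,2,1,0,2,0,1,2,0,1,0,1,2])))))
 (Tr.node (Tr.node (Tr.node (Tr.node (Tr.leaf [2,2])
 (Tr.leaf [1,0,1,0,1,0,1,0,1,2,1,0,1,0,2,1,0,2,0,1,2,0,1,0,1,2]))
 (Tr.node (Tr.leaf [1,0,2,1,0,2,0,1,2,0,1,0,1,2,1,0,1,0,1,0,1,0,1,2,1,0])
 (Tr.leaf [1,0,1,0,1,0,1,0,1,2,1,0,1,0,2,1,0,2,0,1,2,0,1,0,1,2])))
 (Tr.node (Tr.node (Tr.leaf [1,2,1,0,1,0,2,1,0,2,0,1,2,0,1,0,1,2,1,0,1,0,1,0,1,0])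
 (Tr.leaf [1,0,1,0,1,0,1,0,1,2,1,0,1,0,2,1,0,2,0,1,2,0,1,0,1,2]))
 (Tr.node (Tr.leaf [0,1,2,0,1,0,1,2,1,0,1,0,1,0,1,0,1,2,1,0,1,0,2,1,0,2])
 (Tr.leaf [1,0,1,0,1,0,1,0,1,2,1,0,1,0,2,1,0,2,0,1,2,0,1,0,1,2]))))
 (Tr.node (Tr.node (Tr.node (Tr.leaf [0,2,0,2])
 (Tr.leaf [1,0,1,0,1,0,1,0,1,2,1,0,1,0,2,1,0,2,0,1,2,0,1,0,1,2]))
 (Tr.node (Tr.leaf [2,1,0,2,0,1,2,0,1,0,1,2,1,0,1,0,1,0,1,0,1,2,1,0,1,0])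
 (Tr.leaf [1,0,1,0,1,0,1,0,1,2,1,0,1,0,2,1,0,2,0,1,2,0,1,0,1,2])))
 (Tr.node (Tr.node (Tr.leaf [1,0,1,0,2,1,0,2,0,1,2,0,1,0,1,2,1,0,1,0,1,0,1,0,1,2])
 (Tr.leaf [1,0,1,0,1,0,1,0,1,2,1,0,1,0,2,1,0,2,0,1,2,0,1,0,1,2]))
 (Tr.node (Tr.leaf [1,0,1,2,1,0,1,0,1,0,1,0,1,2,1,0,1,0,2,1,0,2,0,1,2,0])
 (Tr.leaf [1,0,1,0,1,0,1,0,1,2,1,0,1,0,2,1,0,2,0,1,2,0,1,0,1,2])))))))

/-- The subgroup rotations. -/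
noncomputable def srotT : Tr (List Nat × Nat × List Nat) := (Tr.node (Tr.leaf ([],0,[]))
 (Tr.leaf ([],1,[])))

/-- The certificate. -/
noncomputable def cert : Cert :=
  mkCert 3 12 36 2 36 38 4 15 74 16 48 68 65535 1048575 6 4 63 15 10 8 3 ctree.get rotT.get srotT.get

/-- The witnesses of the rotations. -/
noncomputable def witT : Tr (Nat × Nat × Bool) := (Tr.node (Tr.node (Tr.node (Tr.node (Tr.node (Tr.node (Tr.leaf (0,0,false))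
 (Tr.leaf (6,22,false)))
 (Tr.node (Tr.leaf (6,3,false))
 (Tr.leaf (6,25,false))))
 (Tr.node (Tr.node (Tr.leaf (4,0,false))
 (Tr.leaf (6,25,false)))
 (Tr.node (Tr.leaf (6,14,false))
 (Tr.leaf (6,25,false)))))
 (Tr.node (Tr.node (Tr.node (Tr.leaf (1,0,false))
 (Tr.leaf (6,25,false)))
 (Tr.node (Tr.leaf (6,5,false))
 (Tr.leaf (6,25,false))))
 (Tr.node (Tr.node (Tr.leaf (6,1,false))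
 (Tr.leaf (6,25,false)))
 (Tr.node (Tr.leaf (6,18,false))
 (Tr.leaf (6,25,false))))))
 (Tr.node (Tr.node (Tr.node (Tr.node (Tr.leaf (3,0,false))
 (Tr.leaf (6,24,false)))
 (Tr.node (Tr.leaf (6,4,false))
 (Tr.leaf (6,25,false))))
 (Tr.node (Tr.node (Tr.leaf (6,0,false))
 (Tr.leaf (6,25,false)))
 (Tr.node (Tr.leaf (6,16,false))
 (Tr.leaf (6,25,false)))))
 (Tr.node (Tr.node (Tr.node (Tr.leaf (2,0,false))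
 (Tr.leaf (6,25,false)))
 (Tr.node (Tr.leaf (6,6,false))
 (Tr.leaf (6,25,false))))
 (Tr.node (Tr.node (Tr.leaf (6,2,false))
 (Tr.leaf (6,25,false)))
 (Tr.node (Tr.leaf (6,20,false))
 (Tr.leaf (6,25,false)))))))
 (Tr.node (Tr.node (Tr.node (Tr.node (Tr.node (Tr.leaf (0,0,false))
 (Tr.leaf (6,23,false)))
 (Tr.node (Tr.leaf (6,10,false))
 (Tr.leaf (6,25,false))))
 (Tr.node (Tr.node (Tr.leaf (4,1,false))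
 (Tr.leaf (6,25,false)))
 (Tr.node (Tr.leaf (6,15,false))
 (Tr.leaf (6,25,false)))))
 (Tr.node (Tr.node (Tr.node (Tr.leaf (1,1,false))
 (Tr.leaf (6,25,false)))
 (Tr.node (Tr.leaf (6,12,false))
 (Tr.leaf (6,25,false))))
 (Tr.node (Tr.node (Tr.leaf (6,8,false))
 (Tr.leaf (6,25,false)))
 (Tr.node (Tr.leaf (6,19,false))
 (Tr.leaf (6,25,false))))))
 (Tr.node (Tr.node (Tr.node (Tr.node (Tr.leaf (5,0,false))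
 (Tr.leaf (6,25,false)))
 (Tr.node (Tr.leaf (6,11,false))
 (Tr.leaf (6,25,false))))
 (Tr.node (Tr.node (Tr.leaf (6,7,false))
 (Tr.leaf (6,25,false)))
 (Tr.node (Tr.leaf (6,17,false))
 (Tr.leaf (6,25,false)))))
 (Tr.node (Tr.node (Tr.node (Tr.leaf (2,1,false))
 (Tr.leaf (6,25,false)))
 (Tr.node (Tr.leaf (6,13,false))
 (Tr.leaf (6,25,false))))
 (Tr.node (Tr.node (Tr.leaf (6,9,false))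
 (Tr.leaf (6,25,false)))
 (Tr.node (Tr.leaf (6,21,false))
 (Tr.leaf (6,25,false))))))))

/-- The letters. -/
def ls : List Nat := [0,1,2]

/-- The smaller letters. -/
def ls' : List Nat := [0,1]

/-- The inverses. -/
def inv' (c : Nat) : Nat := [0,1,2].getD c 0

/-- The relators. -/
def rels' : List (List Nat) :=
  [[0,0],
   [1,0,1,0,1,0,1,0,1,0,1,0,1,0,1,0,1,0,1,0],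
   [2,0,2,0],
   [1,1],
   [2,1,2,1,2,1],
   [2,2],
   [0,1,0,1,0,1,0,1,2,1,0,1,0,2,1,0,2,0,1,2,0,1,0,1,2,1]]

/-- The subgroup. -/
def subs' : List (List Nat) :=
  [[0],[1]]


end Cfsg.Agent.Lib.TC.D.HeH.S3_Tab
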